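/-
A collector with coefficients in a binary module: certificates that every extension of a group by the module
is, over a polycyclic two-subgroup, split up to one fixed class.
-/
import Mathlib
import Cfsg.Agent.Lib.StemSylow.Collect

set_option autoImplicit false
set_option linter.style.haveILetI false
set_option linter.unusedSectionVars false

namespace CfsgLib.ExtCert

open CfsgLib.StemSylow.Collect (Eqn ev ev_append ev_cons ev_nil map_ev card_double)

/-- The certificate: facts `(t, q, p)` say `t q t⁻¹ = p`; `gm`, `tm` list the images of the basis. -/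
structure Cert where
  n : ℕ
  d : ℕ
  fuel : ℕ
  facts : List (ℕ × List ℕ × List ℕ)
  gm : List (List ℕ)
  tm : List (List ℕ)
  eqs : List Eqn
  rows : List ℕ
  s : List (List ℕ)
  combos : List (List ℕ)
  r0 : List ℕ
  lam : ℕ

/-- The sum of two forms. -/
def xadd : List ℕ → List ℕ → List ℕ
  | [], g => g
  | f, [] => f
  | a :: f, b :: g => (a ^^^ b) :: xadd f g

/-- A bit test on raw operations. -/
def bit (m i : ℕ) : Bool := Nat.beq (Nat.mod (Nat.shiftRight m i) 2) 1

/-- The row `x` placed at the one bits of `c` below `d`. -/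
def scale (d c x : ℕ) : List ℕ := (List.range d).map fun i => cond (bit c i) x 0

/-- The image of a form under a matrix. -/
def actM (d : ℕ) : List ℕ → List ℕ → List ℕ
  | [], _ => []
  | _ :: _, [] => []
  | c :: mm, x :: f => xadd (scale d c x) (actM d mm f)

/-- The sum of the rows selected by a mask. -/
def selXor : List ℕ → ℕ → ℕ
  | [], _ => 0
  | r :: rs, m => cond (Nat.beq (Nat.mod m 2) 1) r 0 ^^^ selXor rs (Nat.div m 2)

namespace Cert

variable (C : Cert)

def idMat : List ℕ := (List.range C.d).map fun i => 2 ^ i

def gmat (k : ℕ) : List ℕ := C.gm.getD k C.idMat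

def tmat (k : ℕ) : List ℕ := C.tm.getD k C.idMat

/-- The form of one unknown element. -/
def unit (m : ℕ) : List ℕ := (List.range C.d).map fun i => 2 ^ (C.d * m + i)

def fact (m : ℕ) : ℕ × List ℕ × List ℕ := C.facts.getD m (0, [], [])

/-- The position of the relation rewriting `j i`, for `i ≤ j`. -/
def rel (i j : ℕ) : ℕ := i * C.n - i * (i - 1) / 2 + (j - i)

def isRel (i j m : ℕ) : Bool :=
  Nat.blt m C.facts.length && Nat.beq (C.fact m).1 0 && decide ((C.fact m).2.1 = [j, i])

/-- The image of a form under a word. -/
def actW : List ℕ → List ℕ → List ℕ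
  | [], f => f
  | a :: l, f => actM C.d (C.gmat a) (actW l f)

/-- Collection: the first argument is a reversed normal word. -/
def collect : ℕ → List ℕ → List ℕ → Option (List ℕ × List ℕ)
  | 0, _, _ => none
  | _ + 1, x, [] => some (x, [])
  | k + 1, [], i :: w => collect k [i] w
  | k + 1, j :: x, i :: w =>
    if Nat.blt j i then collect k (i :: j :: x) w
    else if C.isRel i j (C.rel i j) then
      (collect k x ((C.fact (C.rel i j)).2.2 ++ w)).map fun r =>
        (r.1, xadd (C.actW x.reverse (C.unit (C.rel i j))) r.2)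
    else none

def qcat : List ℕ → List ℕ
  | [] => []
  | m :: l => (C.fact m).2.1 ++ qcat l

def pcat : List ℕ → List ℕ
  | [] => []
  | m :: l => (C.fact m).2.2 ++ pcat l

/-- The unknowns produced by conjugating a product of left sides. -/
def xs : List ℕ → List ℕ
  | [] => []
  | m :: l => xadd (C.unit m) (C.actW (C.fact m).2.2 (xs l))

def sameT (t : ℕ) (l : List ℕ) : Bool :=
  l.all fun m => Nat.blt m C.facts.length && Nat.beq (C.fact m).1 t

/-- The form of an equation. -/
def form : Eqn → Option (List ℕ)
  | .conj v1 v2 =>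
    match C.collect C.fuel [] (C.qcat v1), C.collect C.fuel [] (C.qcat v2), C.collect C.fuel [] (C.pcat v1),
      C.collect C.fuel [] (C.pcat v2) with
    | some (y1, f1), some (y2, f2), some (z1, h1), some (z2, h2) =>
      if decide (y1 = y2) && decide (z1 = z2) && C.sameT (C.fact (v1.getD 0 0)).1 v1 &&
          C.sameT (C.fact (v1.getD 0 0)).1 v2 then
        some (xadd (actM C.d (C.tmat (C.fact (v1.getD 0 0)).1) (xadd f1 f2)) (xadd (xadd (C.xs v1) h1) (xadd (C.xs v2) h2)))
      else none
    | _, _, _, _ => none
  | .ins pre w post =>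
    match C.collect C.fuel [] w with
    | some (y, f) =>
      match C.collect C.fuel [] (pre ++ w ++ post), C.collect C.fuel [] (pre ++ y.reverse ++ post) with
      | some (a1, f1), some (a2, f2) => if a1 = a2 then some (xadd f1 (xadd (C.actW pre f) f2)) else none
      | _, _ => none
    | none => none

/-- All rows of all equations. -/
def allRows : List Eqn → Option (List ℕ)
  | [] => some []
  | e :: es =>
    match C.form e, allRows es with
    | some f, some r => some ((List.range C.d).map (fun i => f.getD i 0) ++ r)
    | _, _ => none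

def sv (k : ℕ) : List ℕ := C.s.getD k []

/-- The correction collected along a word. -/
def sx : List ℕ → List ℕ
  | [] => []
  | a :: l => xadd (C.sv a) (actM C.d (C.gmat a) (sx l))

/-- The form of a relation after correcting the lifts. -/
def target (i j : ℕ) : List ℕ :=
  xadd (xadd (C.sx [j, i]) (C.unit (C.rel i j))) (C.sx (C.fact (C.rel i j)).2.2)

/-- The right side has the polycyclic shape. -/
def shape (i j : ℕ) : List ℕ → Bool
  | [] => Nat.beq j i
  | a :: l => l.all (fun x => Nat.blt i x && Nat.blt x C.n) &&
      if Nat.beq j i then Nat.blt i a && Nat.blt a C.n else Nat.beq a i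

/-- The remaining class at a relation. -/
def r0at (m : ℕ) : ℕ := C.r0.getD m 0

def combOK (i j : ℕ) : Bool :=
  (List.range C.d).all fun c => Nat.beq (selXor C.rows ((C.combos.getD (C.rel i j) []).getD c 0))
    ((C.target i j).getD c 0 ^^^ cond (bit (C.r0at (C.rel i j)) c) C.lam 0)

def relOK (i j : ℕ) : Bool :=
  C.isRel i j (C.rel i j) && C.shape i j (C.fact (C.rel i j)).2.2 && C.combOK i j

def matsOK : Bool :=
  C.gm.all (fun mm => Nat.beq mm.length C.d) && C.tm.all (fun mm => Nat.beq mm.length C.d)

def check : Bool :=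
  C.matsOK && decide (C.allRows C.eqs = some C.rows) &&
    (List.range C.n).all fun i => (List.range C.n).all fun j => Nat.blt j i || C.relOK i j

end Cert

section Forms

/-- Parity of the unknowns selected by a row. -/
def lin (x : ℕ → ZMod 2) : ℕ → ℕ → ZMod 2
  | 0, _ => 0
  | N + 1, f => lin x N f + if f.testBit N then x N else 0

variable (x : ℕ → ZMod 2) (N : ℕ)

theorem lin_xor (a b : ℕ) : lin x N (a ^^^ b) = lin x N a + lin x N b := by
  induction N with
  | zero => simp [lin]
  | succ N ih =>
    simp only [lin, ih, Nat.testBit_xor]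
    cases a.testBit N <;> cases b.testBit N <;> simp <;> ring_nf <;>
      simp [show (2 : ZMod 2) = 0 from rfl]

theorem lin_zero : lin x N 0 = 0 := by
  induction N with
  | zero => rfl
  | succ N ih => simp [lin, ih]

theorem lin_two_pow {m : ℕ} (hm : m < N) : lin x N (2 ^ m) = x m := by
  have hlow : ∀ K ≤ m, lin x K (2 ^ m) = 0 := by
    intro K hK
    induction K with
    | zero => rfl
    | succ K ih => simp [lin, ih (by omega), Nat.testBit_two_pow, show ¬m = K by omega]
  induction N with
  | zero => omega
  | succ N ih =>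
    rcases Nat.lt_succ_iff_lt_or_eq.mp hm with h | rfl
    · simp [lin, ih h, Nat.testBit_two_pow, show ¬m = N by omega]
    · simp [lin, hlow m le_rfl, Nat.testBit_two_pow]

theorem lin_selXor {rows : List ℕ} (h : ∀ r ∈ rows, lin x N r = 0) : ∀ m, lin x N (selXor rows m) = 0 := by
  induction rows with
  | nil => intro m; exact lin_zero x N
  | cons r rs ih =>
    intro m
    rw [selXor, lin_xor, ih (fun a ha => h a (List.mem_cons_of_mem _ ha))]
    cases Nat.beq (Nat.mod m 2) 1 <;> simp [h r List.mem_cons_self, lin_zero]

/-- The module element of a form. -/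
def vec (d : ℕ) (f : List ℕ) : Fin d → ZMod 2 := fun i => lin x N (f.getD i 0)

theorem getD_xadd : ∀ (f g : List ℕ) (i : ℕ), (xadd f g).getD i 0 = f.getD i 0 ^^^ g.getD i 0
  | [], g, i => by simp [xadd]
  | a :: f, [], i => by simp [xadd]
  | a :: f, b :: g, 0 => by simp [xadd]
  | a :: f, b :: g, i + 1 => by simpa [xadd] using getD_xadd f g i

theorem vec_xadd (d : ℕ) (f g : List ℕ) : vec x N d (xadd f g) = vec x N d f + vec x N d g := by
  funext i
  show lin x N ((xadd f g).getD i 0) = lin x N (f.getD i 0) + lin x N (g.getD i 0)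
  rw [getD_xadd, lin_xor]

theorem vec_nil (d : ℕ) : vec x N d [] = 0 := by funext i; simp [vec, lin_zero]

/-- The scalar of a bit. -/
def bz (b : Bool) : ZMod 2 := cond b 1 0

/-- The map with the given images of the basis. -/
def act (d : ℕ) (mm : List ℕ) (a : Fin d → ZMod 2) : Fin d → ZMod 2 :=
  fun i => ∑ j : Fin d, bz (bit (mm.getD j 0) i) * a j

theorem act_add (d : ℕ) (mm : List ℕ) (a b : Fin d → ZMod 2) : act d mm (a + b) = act d mm a + act d mm b := by
  funext i; simp [act, mul_add, Finset.sum_add_distrib]

theorem act_zero (d : ℕ) (mm : List ℕ) : act d mm 0 = 0 := by funext i; simp [act]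

theorem lin_actM (d : ℕ) {i : ℕ} (hi : i < d) : ∀ (mm f : List ℕ), lin x N ((actM d mm f).getD i 0) =
    ∑ j ∈ Finset.range mm.length, bz (bit (mm.getD j 0) i) * lin x N (f.getD j 0)
  | [], f => by simp [actM, lin_zero]
  | c :: mm, [] => by simp [actM, lin_zero]
  | c :: mm, a :: f => by
    rw [actM, getD_xadd, lin_xor, lin_actM d hi mm f, List.length_cons, Finset.sum_range_succ', add_comm]
    have : (scale d c a).getD i 0 = cond (bit c i) a 0 := by simp [scale, List.getD_eq_getElem, hi]
    simp only [List.getD_cons_succ, List.getD_cons_zero, this]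
    cases bit c i <;> simp [bz, lin_zero]

theorem vec_actM {d : ℕ} {mm : List ℕ} (hmm : mm.length = d) (f : List ℕ) :
    vec x N d (actM d mm f) = act d mm (vec x N d f) := by
  funext i
  simp only [vec, act, lin_actM x N d i.2, hmm]
  exact Finset.sum_range fun j => bz (bit (mm.getD j 0) i) * lin x N (f.getD j 0)

end Forms

section Sound

variable (C : Cert) {Γ : Type*} [Group Γ] {ι : (Fin C.d → ZMod 2) → Γ} {Gl Tl : ℕ → Γ}
  {r : ℕ → Fin C.d → ZMod 2}
  (hι : ∀ a b, ι (a + b) = ι a * ι b) (hinj : Function.Injective ι) (hm : C.matsOK = true)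
  (hG : ∀ k a, Gl k * ι a = ι (act C.d (C.gmat k) a) * Gl k)
  (hT : ∀ k a, Tl k * ι a = ι (act C.d (C.tmat k) a) * Tl k)
  (hT0 : Tl 0 = 1)
  (hf : ∀ m < C.facts.length, Tl (C.fact m).1 * ev Gl (C.fact m).2.1 = ι (r m) * ev Gl (C.fact m).2.2 * Tl (C.fact m).1)

/-- The coordinates of the unknowns. -/
def Cert.unk (r : ℕ → Fin C.d → ZMod 2) : ℕ → ZMod 2 := fun j =>
  if h : 0 < C.d then r (j / C.d) ⟨j % C.d, Nat.mod_lt _ h⟩ else 0

/-- The number of coordinates. -/
def Cert.nunk : ℕ := C.d * C.facts.length

/-- The value of a form. -/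
def Cert.val (r : ℕ → Fin C.d → ZMod 2) (f : List ℕ) : Fin C.d → ZMod 2 := vec (C.unk r) C.nunk C.d f

theorem val_xadd (f g : List ℕ) : C.val r (xadd f g) = C.val r f + C.val r g := vec_xadd _ _ _ _ _

theorem val_nil : C.val r [] = 0 := vec_nil _ _ _

theorem val_unit {m : ℕ} (h : m < C.facts.length) : C.val r (C.unit m) = r m := by
  funext i
  have hd : 0 < C.d := Nat.lt_of_le_of_lt (Nat.zero_le _) i.2
  have hlt : C.d * m + i < C.nunk :=
    calc C.d * m + i < C.d * m + C.d := Nat.add_lt_add_left i.2 _
      _ = C.d * (m + 1) := by ring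
      _ ≤ C.nunk := Nat.mul_le_mul_left _ h
  simp only [Cert.val, vec, Cert.unit]
  rw [List.getD_eq_getElem _ _ (by simp), List.getElem_map, List.getElem_range, lin_two_pow _ _ hlt]
  simp only [Cert.unk, dif_pos hd, Nat.mul_add_div hd, Nat.div_eq_of_lt i.2, add_zero]
  congr 1
  apply Fin.ext
  simp [Nat.mul_add_mod, Nat.mod_eq_of_lt i.2]

include hι in
theorem iota_zero : ι 0 = 1 := mul_left_cancel (a := ι 0) (by rw [← hι, add_zero, mul_one])

include hm in
theorem val_actM_g (k : ℕ) (f : List ℕ) : C.val r (actM C.d (C.gmat k) f) = act C.d (C.gmat k) (C.val r f) := by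
  refine vec_actM _ _ ?_ f
  simp only [Cert.matsOK, Bool.and_eq_true, List.all_eq_true] at hm
  rcases Nat.lt_or_ge k C.gm.length with h | h
  · rw [Cert.gmat, List.getD_eq_getElem _ _ h]; exact Nat.eq_of_beq_eq_true (hm.1 _ (List.getElem_mem h))
  · rw [Cert.gmat, List.getD_eq_default _ _ h]; simp [Cert.idMat]

include hm in
theorem val_actM_t (k : ℕ) (f : List ℕ) : C.val r (actM C.d (C.tmat k) f) = act C.d (C.tmat k) (C.val r f) := by
  refine vec_actM _ _ ?_ f
  simp only [Cert.matsOK, Bool.and_eq_true, List.all_eq_true] at hm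
  rcases Nat.lt_or_ge k C.tm.length with h | h
  · rw [Cert.tmat, List.getD_eq_getElem _ _ h]; exact Nat.eq_of_beq_eq_true (hm.2 _ (List.getElem_mem h))
  · rw [Cert.tmat, List.getD_eq_default _ _ h]; simp [Cert.idMat]

include hι hm hG in
theorem actW_sound (f : List ℕ) : ∀ l, ev Gl l * ι (C.val r f) = ι (C.val r (C.actW l f)) * ev Gl l
  | [] => by simp [Cert.actW, ev_nil]
  | a :: l => by
    rw [ev_cons, mul_assoc, actW_sound f l, ← mul_assoc, hG, Cert.actW, val_actM_g C hm, mul_assoc]

theorem add_self (a : Fin C.d → ZMod 2) : a + a = 0 := funext fun i => CharTwo.add_self_eq_zero (a i)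

include hι hm hG hT0 hf in
theorem collect_sound : ∀ k x w y f, C.collect k x w = some (y, f) →
    ev Gl (x.reverse ++ w) = ι (C.val r f) * ev Gl y.reverse := by
  intro k
  induction k with
  | zero => intro x w y f h; simp [Cert.collect] at h
  | succ k ih =>
    intro x w y f h
    match x, w with
    | x, [] =>
      simp [Cert.collect] at h
      obtain ⟨rfl, rfl⟩ := h
      simp [val_nil, iota_zero C hι]
    | [], i :: w =>
      simp only [Cert.collect] at h
      simpa using ih _ _ _ _ h
    | j :: x, i :: w =>
      simp only [Cert.collect] at h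
      split at h
      · simpa using ih _ _ _ _ h
      · split at h
        · rename_i hr
          simp only [Option.map_eq_some_iff, Prod.mk.injEq] at h
          obtain ⟨⟨y', f'⟩, hy, rfl, rfl⟩ := h
          simp only [Cert.isRel, Bool.and_eq_true, decide_eq_true_eq, Nat.blt_eq] at hr
          obtain ⟨⟨hlt, h0⟩, hq⟩ := hr
          have hm' := hf (C.rel i j) hlt
          rw [Nat.eq_of_beq_eq_true h0, hT0, mul_one, one_mul, hq] at hm'
          have hy' := ih _ _ _ _ hy
          rw [ev_append, ev_append] at hy'
          calc ev Gl ((j :: x).reverse ++ i :: w)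
              = ev Gl x.reverse * ev Gl [j, i] * ev Gl w := by
                rw [List.reverse_cons, List.append_assoc, ev_append, List.singleton_append, ev_cons, ev_cons, ev_cons,
                  ev_cons, ev_nil]
                simp only [mul_one, mul_assoc]
            _ = ι (C.val r (C.actW x.reverse (C.unit (C.rel i j)))) *
                (ev Gl x.reverse * (ev Gl (C.fact (C.rel i j)).2.2 * ev Gl w)) := by
                rw [hm', ← val_unit C (r := r) hlt]
                simp only [← mul_assoc]
                rw [actW_sound C hι hm hG]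
            _ = _ := by rw [hy', val_xadd, hι, mul_assoc]
        · simp at h

include hι hm hG hf in
theorem conj_sound (t : ℕ) : ∀ l, C.sameT t l = true →
    Tl t * ev Gl (C.qcat l) = ι (C.val r (C.xs l)) * ev Gl (C.pcat l) * Tl t
  | [], _ => by simp [Cert.qcat, Cert.pcat, Cert.xs, ev_nil, val_nil, iota_zero C hι]
  | m :: l, h => by
    simp only [Cert.sameT, List.all_cons, Bool.and_eq_true, Nat.blt_eq] at h
    obtain ⟨⟨hlt, ht⟩, hl⟩ := h
    have hm' := hf m hlt
    rw [Nat.eq_of_beq_eq_true ht] at hm'
    have := conj_sound t l hl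
    simp only [Cert.qcat, Cert.pcat, ev_append, Cert.xs, val_xadd, hι, val_unit C hlt]
    calc Tl t * (ev Gl (C.fact m).2.1 * ev Gl (C.qcat l))
        = ι (r m) * ev Gl (C.fact m).2.2 * (Tl t * ev Gl (C.qcat l)) := by
          rw [← mul_assoc, hm', mul_assoc]
      _ = ι (r m) * (ev Gl (C.fact m).2.2 * ι (C.val r (C.xs l))) * ev Gl (C.pcat l) * Tl t := by
          rw [this]; simp only [mul_assoc]
      _ = _ := by rw [actW_sound C hι hm hG]; simp only [mul_assoc]

include hι hinj hm hG hT hT0 hf in
theorem form_sound (e : Eqn) (a : List ℕ) (h : C.form e = some a) : C.val r a = 0 := by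
  have hs := collect_sound C hι hm hG hT0 hf C.fuel []
  simp only [List.reverse_nil, List.nil_append] at hs
  cases e with
  | conj v1 v2 =>
    simp only [Cert.form] at h
    split at h
    · rename_i y1 f1 y2 f2 z1 g1 z2 g2 e1 e2 e3 e4
      split at h
      · rename_i hh
        simp only [Bool.and_eq_true, decide_eq_true_eq] at hh
        obtain ⟨⟨⟨rfl, rfl⟩, ht1⟩, ht2⟩ := hh
        obtain rfl : _ = a := by simpa using h
        set t := (C.fact (v1.getD 0 0)).1
        have key : ∀ v f g, C.collect C.fuel [] (C.qcat v) = some (y1, f) →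
            C.collect C.fuel [] (C.pcat v) = some (z1, g) → C.sameT t v = true →
            Tl t * ev Gl y1.reverse =
              ι (act C.d (C.tmat t) (C.val r f) + (C.val r (C.xs v) + C.val r g)) * (ev Gl z1.reverse * Tl t) := by
          intro v f g hq hp hv
          have hh := conj_sound C hι hm hG hf t v hv
          rw [hs _ _ _ hq, hs _ _ _ hp, ← mul_assoc, hT, mul_assoc] at hh
          calc Tl t * ev Gl y1.reverse
              = ι (act C.d (C.tmat t) (C.val r f)) *
                  (ι (act C.d (C.tmat t) (C.val r f)) * (Tl t * ev Gl y1.reverse)) := by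
                rw [← mul_assoc, ← hι, add_self, iota_zero C hι, one_mul]
            _ = _ := by rw [hh, hι, hι]; simp only [mul_assoc]
        have heq := hinj (mul_right_cancel ((key v1 f1 g1 e1 e3 ht1).symm.trans (key v2 f2 g2 e2 e4 ht2)))
        simp only [val_xadd, val_actM_t C hm, act_add]
        calc act C.d (C.tmat t) (C.val r f1) + act C.d (C.tmat t) (C.val r f2) +
              (C.val r (C.xs v1) + C.val r g1 + (C.val r (C.xs v2) + C.val r g2))
            = (act C.d (C.tmat t) (C.val r f1) + (C.val r (C.xs v1) + C.val r g1)) +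
              (act C.d (C.tmat t) (C.val r f2) + (C.val r (C.xs v2) + C.val r g2)) := by abel
          _ = 0 := by rw [heq, add_self]
      · simp at h
    · simp at h
  | ins pre w post =>
    simp only [Cert.form] at h
    split at h
    · rename_i y f ey
      split at h
      · rename_i a1 f1 a2 f2 e1 e2
        split at h
        · rename_i heq
          subst heq
          obtain rfl : _ = a := by simpa using h
          have k1 := hs _ _ _ e1
          have k2 := hs _ _ _ e2
          rw [ev_append, ev_append, hs _ _ _ ey, ← mul_assoc, actW_sound C hι hm hG, mul_assoc, mul_assoc,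
            ← mul_assoc (ev Gl pre)] at k1
          rw [ev_append, ev_append] at k2
          rw [k2, ← mul_assoc, ← hι] at k1
          have := hinj (mul_right_cancel k1)
          simp only [val_xadd]
          rw [this, add_self]
        · simp at h
      · simp at h
    · simp at h

include hι hinj hm hG hT hT0 hf in
theorem rows_sound : ∀ es rs, C.allRows es = some rs → ∀ a ∈ rs, lin (C.unk r) C.nunk a = 0 := by
  intro es
  induction es with
  | nil => intro rs h; obtain rfl : ([] : List ℕ) = rs := by simpa [Cert.allRows] using h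
           simp
  | cons e es ih =>
    intro rs h a ha
    simp only [Cert.allRows] at h
    split at h
    · rename_i f R ef eR
      obtain rfl : _ = rs := by simpa using h
      rcases List.mem_append.mp ha with ha | ha
      · obtain ⟨i, hi, rfl⟩ := List.mem_map.mp ha
        exact congrFun (form_sound C hι hinj hm hG hT hT0 hf e f ef) ⟨i, List.mem_range.mp hi⟩
      · exact ih R eR a ha
    · simp at h

include hι hm hG in
theorem ev_twist : ∀ l : List ℕ,
    ev (fun k => ι (C.val r (C.sv k)) * Gl k) l = ι (C.val r (C.sx l)) * ev Gl l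
  | [] => by simp [ev_nil, Cert.sx, val_nil, iota_zero C hι]
  | k :: l => by
    rw [ev_cons, ev_cons, ev_twist l, Cert.sx, val_xadd, val_actM_g C hm, hι, mul_assoc, ← mul_assoc (Gl k), hG]
    simp only [mul_assoc]

/-- The class left at a relation. -/
def Cert.r0v (m : ℕ) : Fin C.d → ZMod 2 := fun c => bz (bit (C.r0at m) c)

include hι hinj hG hT hT0 hf in
/-- The corrected lifts satisfy the relations up to one class. -/
theorem rel_sound (h : C.check = true) {i j : ℕ} (hij : i ≤ j) (hj : j < C.n) :
    ev (fun k => ι (C.val r (C.sv k)) * Gl k) [j, i] =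
      ι (lin (C.unk r) C.nunk C.lam • C.r0v (C.rel i j)) *
        ev (fun k => ι (C.val r (C.sv k)) * Gl k) (C.fact (C.rel i j)).2.2 := by
  simp only [Cert.check, Bool.and_eq_true, List.all_eq_true, List.mem_range, Bool.or_eq_true, Nat.blt_eq,
    decide_eq_true_eq] at h
  obtain ⟨⟨hm, hrows⟩, hrel⟩ := h
  have hr := (hrel i (by omega) j hj).resolve_left (by omega)
  simp only [Cert.relOK, Cert.isRel, Bool.and_eq_true, decide_eq_true_eq, Nat.blt_eq] at hr
  obtain ⟨⟨⟨⟨hlt, h0⟩, hq⟩, -⟩, hcb⟩ := hr
  have hm' := hf (C.rel i j) hlt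
  rw [Nat.eq_of_beq_eq_true h0, hT0, mul_one, one_mul, hq] at hm'
  have ht : C.val r (C.target i j) = lin (C.unk r) C.nunk C.lam • C.r0v (C.rel i j) := by
    funext c
    simp only [Cert.combOK, List.all_eq_true, List.mem_range] at hcb
    have hc := congrArg (lin (C.unk r) C.nunk) (Nat.eq_of_beq_eq_true (hcb c c.2))
    rw [lin_selXor _ _ (rows_sound C hι hinj hm hG hT hT0 hf _ _ hrows), lin_xor] at hc
    have hc' := CharTwo.add_eq_zero.mp hc.symm
    simp only [Cert.val, vec, hc', Pi.smul_apply, smul_eq_mul, Cert.r0v]
    cases bit (C.r0at (C.rel i j)) c <;> simp [bz, lin_zero]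
  rw [Cert.target, val_xadd, val_xadd, val_unit C hlt] at ht
  rw [ev_twist C hι hm hG, ev_twist C hι hm hG, hm', ← ht, ← mul_assoc, ← mul_assoc, ← hι, ← hι,
    add_assoc _ (C.val r (C.sx _)) (C.val r (C.sx _)), add_self, add_zero]

end Sound

/-- Generators satisfying the relations of a certificate span at most `2 ^ n` elements. -/
theorem card_le_of_rels (C : Cert) {Γ : Type*} [Group Γ] [Finite Γ] (G' : ℕ → Γ) (h : C.check = true)
    (hex : ∀ i j, i ≤ j → j < C.n → ev G' [j, i] = ev G' (C.fact (C.rel i j)).2.2) :
    Nat.card (Subgroup.closure (G' '' {k | k < C.n})) ≤ 2 ^ C.n := by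
  have hk : ∀ d ≤ C.n, Nat.card (Subgroup.closure (G' '' {k | C.n - d ≤ k ∧ k < C.n})) ≤ 2 ^ d := by
    intro d hd
    induction d with
    | zero =>
      rw [show {k | C.n - 0 ≤ k ∧ k < C.n} = (∅ : Set ℕ) by ext k; simp, Set.image_empty, Subgroup.closure_empty,
        Subgroup.card_bot, pow_zero]
    | succ d ih =>
      set i := C.n - (d + 1)
      set N := Subgroup.closure (G' '' {k | C.n - d ≤ k ∧ k < C.n})
      have hrel : ∀ j, i ≤ j → j < C.n → C.relOK i j = true := by
        intro j hij hj
        simp only [Cert.check, Bool.and_eq_true, List.all_eq_true, List.mem_range, Bool.or_eq_true, Nat.blt_eq] at h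
        exact (h.2 i (by omega) j hj).resolve_left (by omega)
      have hin : ∀ x, i < x → x < C.n → G' x ∈ N := fun x h1 h2 =>
        Subgroup.subset_closure ⟨x, ⟨by omega, h2⟩, rfl⟩
      have hev : ∀ l : List ℕ, (∀ x ∈ l, i < x ∧ x < C.n) → ev G' l ∈ N := fun l hl =>
        Subgroup.list_prod_mem _ (fun y hy => by
          obtain ⟨x, hx, rfl⟩ := List.mem_map.mp hy
          exact hin x (hl x hx).1 (hl x hx).2)
      have hshape : ∀ j, i ≤ j → j < C.n → C.shape i j (C.fact (C.rel i j)).2.2 = true := fun j a b => by
        have := hrel j a b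
        simp only [Cert.relOK, Bool.and_eq_true] at this
        exact this.1.2
      have hsq : G' i * G' i ∈ N := by
        have e := hex i i le_rfl (by omega)
        rw [ev_cons, ev_cons, ev_nil, mul_one] at e
        rw [e]
        refine hev _ fun x hx => ?_
        have := hshape i le_rfl (by omega)
        cases hp : (C.fact (C.rel i i)).2.2 with
        | nil => simp [hp] at hx
        | cons a l =>
          rw [hp] at this hx
          simp only [Cert.shape, Bool.and_eq_true, List.all_eq_true, Nat.blt_eq] at this
          rw [if_pos (Nat.beq_refl i)] at this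
          simp only [Bool.and_eq_true, Nat.blt_eq] at this
          rcases List.mem_cons.mp hx with rfl | hx
          exacts [this.2, this.1 x hx]
      have hconj : ∀ a ∈ N, (G' i)⁻¹ * a * G' i ∈ N := by
        intro a ha
        induction ha using Subgroup.closure_induction with
        | mem y hy =>
          obtain ⟨j, ⟨hj1, hj2⟩, rfl⟩ := hy
          have e := hex i j (by omega) hj2
          rw [ev_cons, ev_cons, ev_nil, mul_one] at e
          have := hshape j (by omega) hj2
          have hne : Nat.beq j i = false := by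
            rw [← Bool.not_eq_true]; intro hb; have := Nat.eq_of_beq_eq_true hb; omega
          cases hp : (C.fact (C.rel i j)).2.2 with
          | nil => rw [hp] at this; simp [Cert.shape, hne] at this
          | cons a l =>
            rw [hp] at this e
            simp only [Cert.shape, Bool.and_eq_true, List.all_eq_true, Nat.blt_eq, hne] at this
            obtain ⟨hl, ha⟩ := this
            obtain rfl : a = i := Nat.eq_of_beq_eq_true (by simpa using ha)
            rw [mul_assoc, show G' j * G' i = G' i * ev G' l from e.trans (ev_cons _ _ _), inv_mul_cancel_left]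
            exact hev l hl
        | one => simp
        | mul x y _ _ hx hy =>
          rw [show (G' i)⁻¹ * (x * y) * G' i = ((G' i)⁻¹ * x * G' i) * ((G' i)⁻¹ * y * G' i) by group]
          exact mul_mem hx hy
        | inv x _ hx =>
          rw [show (G' i)⁻¹ * x⁻¹ * G' i = ((G' i)⁻¹ * x * G' i)⁻¹ by group]
          exact inv_mem hx
      have := card_double N hconj hsq (S := G' '' {k | i ≤ k ∧ k < C.n}) (by
        rintro _ ⟨k, ⟨hk1, hk2⟩, rfl⟩
        rcases Nat.lt_or_eq_of_le hk1 with hlt | heq
        · exact Or.inl (hin k hlt hk2)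
        · exact Or.inr (by rw [heq]))
      calc _ ≤ 2 * Nat.card N := this
        _ ≤ 2 * 2 ^ d := Nat.mul_le_mul_left _ (ih (by omega))
        _ = 2 ^ (d + 1) := by ring
  simpa using hk C.n le_rfl

end CfsgLib.ExtCert
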