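/-
From certificates to extensions: lifts exact up to one class, complements by Gaschütz, uniqueness.
-/
import Mathlib
import Cfsg.Agent.Lib.ExtCert.Collect
import Cfsg.Agent.S0051

set_option autoImplicit false
set_option linter.style.haveILetI false
set_option linter.unusedSectionVars false

namespace CfsgLib.ExtCert

open CfsgLib.StemSylow.Collect (ev map_ev ev_nil ev_cons)

universe u v w

variable {d : ℕ} {E : Type u} [Group E] {Q : Type v} [Group Q]

/-- An extension of `Q` by the binary space of dimension `d`. -/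
structure IsExt (π : E →* Q) (ι : (Fin d → ZMod 2) → E) : Prop where
  surj : Function.Surjective π
  add : ∀ a b, ι (a + b) = ι a * ι b
  inj : Function.Injective ι
  ker : ∀ e, π e = 1 ↔ e ∈ Set.range ι

variable {π : E →* Q} {ι : (Fin d → ZMod 2) → E}

theorem IsExt.pi_iota (h : IsExt π ι) (a : Fin d → ZMod 2) : π (ι a) = 1 := (h.ker _).mpr ⟨a, rfl⟩

theorem IsExt.iota_zero (h : IsExt π ι) : ι 0 = 1 :=
  mul_left_cancel (a := ι 0) (by rw [← h.add, add_zero, mul_one])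

theorem IsExt.sq (h : IsExt π ι) {x : E} (hx : π x = 1) : x * x = 1 := by
  obtain ⟨a, rfl⟩ := (h.ker x).mp hx
  rw [← h.add, show a + a = 0 from funext fun i => CharTwo.add_self_eq_zero (a i), h.iota_zero]

theorem IsExt.comm (h : IsExt π ι) {x y : E} (hx : π x = 1) (hy : π y = 1) : x * y = y * x := by
  obtain ⟨a, rfl⟩ := (h.ker x).mp hx
  obtain ⟨b, rfl⟩ := (h.ker y).mp hy
  rw [← h.add, ← h.add, add_comm]

/-- Elements over `k` act by the matrix of `k`. -/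
def ActsBy (π : E →* Q) (ι : (Fin d → ZMod 2) → E) (x : Q) (mm : List ℕ) : Prop :=
  ∀ e, π e = x → ∀ a, e * ι a = ι (act d mm a) * e

/-- A certificate gives lifts of the Sylow generators whose relations are exact up to one class. -/
theorem exists_lifts (C : Cert) (hC : C.check = true) {π : E →* Q} {ι : (Fin C.d → ZMod 2) → E} (h : IsExt π ι)
    (g t : ℕ → Q) (ht : t 0 = 1) (hg : ∀ k, ActsBy π ι (g k) (C.gmat k)) (htm : ∀ k, ActsBy π ι (t k) (C.tmat k))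
    (hfacts : ∀ m < C.facts.length,
      t (C.fact m).1 * ev g (C.fact m).2.1 = ev g (C.fact m).2.2 * t (C.fact m).1) :
    ∃ (G' : ℕ → E) (c : ZMod 2), (∀ k, π (G' k) = g k) ∧
      ∀ i j, i ≤ j → j < C.n → ev G' [j, i] = ι (c • C.r0v (C.rel i j)) * ev G' (C.fact (C.rel i j)).2.2 := by
  classical
  let Gl : ℕ → E := fun k => Function.surjInv h.surj (g k)
  let Tl : ℕ → E := fun k => if k = 0 then 1 else Function.surjInv h.surj (t k)
  have hGl : ∀ k, π (Gl k) = g k := fun k => Function.surjInv_eq h.surj _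
  have hTl : ∀ k, π (Tl k) = t k := fun k => by
    by_cases hk : k = 0
    · simp [Tl, hk, ht]
    · simp [Tl, hk, Function.surjInv_eq h.surj]
  have hev : ∀ l, π (ev Gl l) = ev g l := fun l => by rw [map_ev]; simp only [hGl]
  have hex : ∀ m : ℕ, ∃ r : Fin C.d → ZMod 2, m < C.facts.length →
      Tl (C.fact m).1 * ev Gl (C.fact m).2.1 = ι r * ev Gl (C.fact m).2.2 * Tl (C.fact m).1 := by
    intro m
    by_cases hm : m < C.facts.length
    · have h1 : π (Tl (C.fact m).1 * ev Gl (C.fact m).2.1 * (ev Gl (C.fact m).2.2 * Tl (C.fact m).1)⁻¹) = 1 := by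
        simp only [map_mul, map_inv, hev, hTl]
        rw [hfacts m hm, mul_inv_cancel]
      obtain ⟨r, hr⟩ := (h.ker _).mp h1
      exact ⟨r, fun _ => by rw [hr, mul_assoc _ (ev Gl (C.fact m).2.2) (Tl _), inv_mul_cancel_right]⟩
    · exact ⟨0, fun h => absurd h hm⟩
  choose r hr using hex
  have hG : ∀ k a, Gl k * ι a = ι (act C.d (C.gmat k) a) * Gl k := fun k => hg k _ (hGl k)
  have hT : ∀ k a, Tl k * ι a = ι (act C.d (C.tmat k) a) * Tl k := fun k => htm k _ (hTl k)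
  refine ⟨fun k => ι (C.val r (C.sv k)) * Gl k, lin (C.unk r) C.nunk C.lam, fun k => ?_, fun i j hij hj =>
    rel_sound C (Gl := Gl) (Tl := Tl) (r := r) h.add h.inj hG hT (by simp [Tl]) hr hC hij hj⟩
  simp [h.pi_iota, hGl]

/-- Lifts satisfying the relations exactly give a complement, the Sylow group having odd index. -/
theorem exists_complement [Finite E] (h : IsExt π ι) (C : Cert) (hC : C.check = true) (G' : ℕ → E)
    (hex : ∀ i j, i ≤ j → j < C.n → ev G' [j, i] = ev G' (C.fact (C.rel i j)).2.2)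
    (hlow : 2 ^ C.n ≤ Nat.card (Subgroup.closure ((fun k => π (G' k)) '' {k | k < C.n})))
    (hodd : Odd (Subgroup.closure ((fun k => π (G' k)) '' {k | k < C.n})).index) :
    ∃ H : Subgroup E, H ⊓ π.ker = ⊥ ∧ H ⊔ π.ker = ⊤ := by
  classical
  set P := Subgroup.closure ((fun k => π (G' k)) '' {k | k < C.n}) with hP
  set L := Subgroup.closure (G' '' {k | k < C.n}) with hL
  have hmap : L.map π = P := by rw [hL, hP, MonoidHom.map_closure, Set.image_image]
  have hinj : ∀ x ∈ L, π x = 1 → x = 1 := by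
    have hsurj : Function.Surjective fun x : L => (⟨π x, hmap ▸ Subgroup.mem_map_of_mem π x.2⟩ : P) := by
      rintro ⟨y, hy⟩
      rw [← hmap] at hy
      obtain ⟨x, hx, rfl⟩ := hy
      exact ⟨⟨x, hx⟩, rfl⟩
    haveI : Finite Q := Finite.of_surjective π h.surj
    have hb := (Nat.bijective_iff_surjective_and_card _).mpr
      ⟨hsurj, le_antisymm ((card_le_of_rels C G' hC hex).trans hlow) (Nat.card_le_card_of_surjective _ hsurj)⟩
    intro x hx h1
    have := @hb.1 ⟨x, hx⟩ ⟨1, one_mem L⟩ (Subtype.ext (by simp [h1]))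
    exact congrArg Subtype.val this
  haveI : IsMulCommutative π.ker :=
    ⟨⟨fun a b => Subtype.ext (h.comm (MonoidHom.mem_ker.mp a.2) (MonoidHom.mem_ker.mp b.2))⟩⟩
  obtain ⟨H, hH⟩ := Cfsg.Agent.S0051.result π.ker (P.comap π) (fun x hx => by
      rw [Subgroup.mem_comap, MonoidHom.mem_ker.mp hx]; exact one_mem P) (by
      rw [Subgroup.index_comap_of_surjective P h.surj]
      have h2 : IsPGroup 2 π.ker := fun x => ⟨1, Subtype.ext (by
        simpa [pow_two] using h.sq (MonoidHom.mem_ker.mp x.2))⟩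
      obtain ⟨k, hk⟩ := IsPGroup.iff_card.mp h2
      rw [hk]
      exact Nat.Coprime.pow_left k (Nat.coprime_two_left.mpr hodd))
    L (by
      intro x hx
      rw [Subgroup.mem_comap, ← hmap]
      exact Subgroup.mem_map_of_mem π hx) (by
      rw [eq_bot_iff]
      rintro x ⟨hxL, hxk⟩
      exact Subgroup.mem_bot.mpr (hinj x hxL (MonoidHom.mem_ker.mp hxk))) (by
      rw [← hmap, Subgroup.comap_map_eq, sup_comm])
  exact ⟨H, by rw [inf_comm]; exact hH.disjoint.eq_bot, by rw [sup_comm]; exact hH.sup_eq_top⟩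

/-- Two extensions with the same action and the same class over the Sylow group are isomorphic. -/
theorem iso_of_class {E₁ : Type u} [Group E₁] [Finite E₁] {E₂ : Type w} [Group E₂] [Finite E₂]
    {π₁ : E₁ →* Q} {π₂ : E₂ →* Q} {ι₁ : (Fin d → ZMod 2) → E₁} {ι₂ : (Fin d → ZMod 2) → E₂}
    (h₁ : IsExt π₁ ι₁) (h₂ : IsExt π₂ ι₂)
    (hact : ∀ e₁ e₂, π₁ e₁ = π₂ e₂ → ∀ a, ∃ b, e₁ * ι₁ a = ι₁ b * e₁ ∧ e₂ * ι₂ a = ι₂ b * e₂)
    (C : Cert) (hC : C.check = true) (r0 : ℕ → Fin d → ZMod 2) (G₁ : ℕ → E₁) (G₂ : ℕ → E₂)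
    (hG : ∀ k, π₁ (G₁ k) = π₂ (G₂ k))
    (hr₁ : ∀ i j, i ≤ j → j < C.n → ev G₁ [j, i] = ι₁ (r0 (C.rel i j)) * ev G₁ (C.fact (C.rel i j)).2.2)
    (hr₂ : ∀ i j, i ≤ j → j < C.n → ev G₂ [j, i] = ι₂ (r0 (C.rel i j)) * ev G₂ (C.fact (C.rel i j)).2.2)
    (hlow : 2 ^ C.n ≤ Nat.card (Subgroup.closure ((fun k => π₁ (G₁ k)) '' {k | k < C.n})))
    (hodd : Odd (Subgroup.closure ((fun k => π₁ (G₁ k)) '' {k | k < C.n})).index) :
    Nonempty (E₁ ≃* E₂) := by
  classical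
  let F : Subgroup (E₁ × E₂) :=
    { carrier := {p | π₁ p.1 = π₂ p.2}
      one_mem' := by simp
      mul_mem' := fun {a b} ha hb => by
        simp only [Set.mem_setOf_eq, Prod.fst_mul, Prod.snd_mul, map_mul] at ha hb ⊢; rw [ha, hb]
      inv_mem' := fun {a} ha => by
        simp only [Set.mem_setOf_eq, Prod.fst_inv, Prod.snd_inv, map_inv] at ha ⊢; rw [ha] }
  let diag : (Fin d → ZMod 2) → F := fun a =>
    ⟨(ι₁ a, ι₂ a), (h₁.pi_iota a).trans (h₂.pi_iota a).symm⟩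
  let D : Subgroup F :=
    { carrier := Set.range diag
      one_mem' := ⟨0, Subtype.ext (Prod.ext h₁.iota_zero h₂.iota_zero)⟩
      mul_mem' := by
        rintro _ _ ⟨a, rfl⟩ ⟨b, rfl⟩
        exact ⟨a + b, Subtype.ext (Prod.ext (h₁.add a b) (h₂.add a b))⟩
      inv_mem' := by
        rintro _ ⟨a, rfl⟩
        exact ⟨a, Subtype.ext (Prod.ext (eq_inv_of_mul_eq_one_left (h₁.sq (h₁.pi_iota a)))
          (eq_inv_of_mul_eq_one_left (h₂.sq (h₂.pi_iota a))))⟩ }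
  haveI : D.Normal := ⟨by
    rintro _ ⟨a, rfl⟩ x
    obtain ⟨b, hb₁, hb₂⟩ := hact _ _ x.2 a
    refine ⟨b, Subtype.ext (Prod.ext ?_ ?_)⟩
    · show ι₁ b = x.1.1 * ι₁ a * x.1.1⁻¹
      rw [hb₁, mul_inv_cancel_right]
    · show ι₂ b = x.1.2 * ι₂ a * x.1.2⁻¹
      rw [hb₂, mul_inv_cancel_right]⟩
  let πF : F →* Q := π₁.comp ((MonoidHom.fst E₁ E₂).comp F.subtype)
  have hD : D ≤ πF.ker := by rintro _ ⟨a, rfl⟩; exact h₁.pi_iota a
  let πD := QuotientGroup.lift D πF hD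
  let l₁ : (Fin d → ZMod 2) → F := fun a => ⟨(ι₁ a, 1), (h₁.pi_iota a).trans (map_one π₂).symm⟩
  let ιD : (Fin d → ZMod 2) → F ⧸ D := fun a => QuotientGroup.mk (l₁ a)
  have hExt : IsExt πD ιD := by
    refine ⟨fun q => ?_, fun a b => ?_, fun a b hab => ?_, fun x => ?_⟩
    · obtain ⟨e₁, rfl⟩ := h₁.surj q
      obtain ⟨e₂, he₂⟩ := h₂.surj (π₁ e₁)
      exact ⟨QuotientGroup.mk (⟨(e₁, e₂), he₂.symm⟩ : F), rfl⟩
    · show _ = ((l₁ a * l₁ b : F) : F ⧸ D)
      exact congrArg _ (Subtype.ext (Prod.ext (h₁.add a b) (mul_one 1).symm))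
    · obtain ⟨c, hc⟩ := QuotientGroup.eq.mp hab
      have hc2 : ι₂ c = (1 : E₂)⁻¹ * 1 := congrArg (fun z : F => z.1.2) hc
      have hc0 : c = 0 := h₂.inj (by rw [h₂.iota_zero, hc2, inv_one, one_mul])
      have hc1 : ι₁ c = (ι₁ a)⁻¹ * ι₁ b := congrArg (fun z : F => z.1.1) hc
      rw [hc0, h₁.iota_zero, eq_comm, inv_mul_eq_one] at hc1
      exact h₁.inj hc1
    · constructor
      · obtain ⟨⟨⟨e₁, e₂⟩, hp⟩, rfl⟩ := QuotientGroup.mk'_surjective D x
        intro hx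
        change π₁ e₁ = 1 at hx
        obtain ⟨a, rfl⟩ := (h₁.ker e₁).mp hx
        obtain ⟨b, rfl⟩ := (h₂.ker e₂).mp (by rw [← hx]; exact hp.symm)
        refine ⟨a + b, QuotientGroup.eq.mpr ⟨b, Subtype.ext (Prod.ext ?_ ?_)⟩⟩
        · show ι₁ b = (ι₁ (a + b))⁻¹ * ι₁ a
          rw [eq_inv_mul_iff_mul_eq, ← h₁.add, add_assoc,
            show b + b = 0 from funext fun i => CharTwo.add_self_eq_zero (b i), add_zero]
        · show ι₂ b = (1 : E₂)⁻¹ * ι₂ b
          rw [inv_one, one_mul]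
      · rintro ⟨a, rfl⟩; exact h₁.pi_iota a
  let GD : ℕ → F ⧸ D := fun k => QuotientGroup.mk' D ⟨(G₁ k, G₂ k), hG k⟩
  have hev : ∀ l, ∃ p : F, p.1 = (ev G₁ l, ev G₂ l) ∧ ev GD l = QuotientGroup.mk' D p := by
    intro l
    induction l with
    | nil => exact ⟨1, rfl, (map_one _).symm⟩
    | cons k l ih =>
      obtain ⟨p, hp, hp'⟩ := ih
      refine ⟨⟨(G₁ k, G₂ k), hG k⟩ * p, ?_, ?_⟩
      · simp [ev_cons, hp]
      · rw [ev_cons, hp', map_mul]
  have hexD : ∀ i j, i ≤ j → j < C.n → ev GD [j, i] = ev GD (C.fact (C.rel i j)).2.2 := by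
    intro i j hij hj
    obtain ⟨p, hp, hp'⟩ := hev [j, i]
    obtain ⟨q, hq, hq'⟩ := hev (C.fact (C.rel i j)).2.2
    rw [hp', hq']
    refine (QuotientGroup.eq.mpr ?_).symm
    obtain ⟨b, hb₁, hb₂⟩ := hact q.1.1⁻¹ q.1.2⁻¹ (by rw [map_inv, map_inv, q.2]) (r0 (C.rel i j))
    refine ⟨b, Subtype.ext (Prod.ext ?_ ?_)⟩
    · show ι₁ b = q.1.1⁻¹ * p.1.1
      rw [hq] at hb₁
      rw [hp, hq, hr₁ i j hij hj, ← mul_assoc, hb₁, inv_mul_cancel_right]
    · show ι₂ b = q.1.2⁻¹ * p.1.2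
      rw [hq] at hb₂
      rw [hp, hq, hr₂ i j hij hj, ← mul_assoc, hb₂, inv_mul_cancel_right]
  obtain ⟨K, hKi, hKs⟩ := exists_complement hExt C hC GD hexD hlow hodd
  set K' := K.comap (QuotientGroup.mk' D) with hK'
  let f₁ : K' →* E₁ := ((MonoidHom.fst E₁ E₂).comp F.subtype).comp K'.subtype
  let f₂ : K' →* E₂ := ((MonoidHom.snd E₁ E₂).comp F.subtype).comp K'.subtype
  have hker : ∀ x : K', π₁ x.1.1.1 = 1 → ∃ a, x.1 = diag a := by
    intro x hx
    have h1 : QuotientGroup.mk' D x.1 ∈ K ⊓ πD.ker := ⟨x.2, hx⟩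
    rw [hKi, Subgroup.mem_bot] at h1
    obtain ⟨a, ha⟩ : x.1 ∈ D := (QuotientGroup.eq_one_iff _).mp h1
    exact ⟨a, ha.symm⟩
  have hdiag : ∀ a, diag a ∈ K' := fun a => by
    rw [hK', Subgroup.mem_comap, show QuotientGroup.mk' D (diag a) = 1 from (QuotientGroup.eq_one_iff _).mpr ⟨a, rfl⟩]
    exact one_mem K
  have hinj₁ : Function.Injective f₁ := by
    rw [injective_iff_map_eq_one]
    intro x hx
    obtain ⟨a, ha⟩ := hker x (by rw [show x.1.1.1 = 1 from hx, map_one])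
    have : ι₁ a = ι₁ 0 := by rw [h₁.iota_zero, ← hx]; exact congrArg (fun z : F => z.1.1) ha.symm
    refine Subtype.ext (ha.trans ?_)
    rw [h₁.inj this]
    exact Subtype.ext (Prod.ext h₁.iota_zero h₂.iota_zero)
  have hinj₂ : Function.Injective f₂ := by
    rw [injective_iff_map_eq_one]
    intro x hx
    obtain ⟨a, ha⟩ := hker x (by rw [x.1.2, show x.1.1.2 = 1 from hx, map_one])
    have : ι₂ a = ι₂ 0 := by rw [h₂.iota_zero, ← hx]; exact congrArg (fun z : F => z.1.2) ha.symm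
    refine Subtype.ext (ha.trans ?_)
    rw [h₂.inj this]
    exact Subtype.ext (Prod.ext h₁.iota_zero h₂.iota_zero)
  have hcover : ∀ p : F, ∃ a, p * l₁ a ∈ K' := by
    intro p
    have : QuotientGroup.mk' D p ∈ ((K ⊔ πD.ker : Subgroup (F ⧸ D)) : Set (F ⧸ D)) := by
      rw [hKs]; exact Subgroup.mem_top _
    rw [Subgroup.mul_normal] at this
    obtain ⟨k, hk, n, hn, hkn⟩ := this
    obtain ⟨a, rfl⟩ := (hExt.ker n).mp hn
    refine ⟨a, ?_⟩
    rw [hK', Subgroup.mem_comap, map_mul, ← hkn]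
    show k * ιD a * ιD a ∈ K
    rwa [mul_assoc, hExt.sq hn, mul_one]
  have hsurj₁ : Function.Surjective f₁ := by
    intro e
    obtain ⟨e₂, he₂⟩ := h₂.surj (π₁ e)
    obtain ⟨a, ha⟩ := hcover ⟨(e, e₂), he₂.symm⟩
    refine ⟨⟨_, mul_mem ha (hdiag a)⟩, ?_⟩
    show e * ι₁ a * ι₁ a = e
    rw [mul_assoc, h₁.sq (h₁.pi_iota a), mul_one]
  have hsurj₂ : Function.Surjective f₂ := by
    intro e
    obtain ⟨e₁, he₁⟩ := h₁.surj (π₂ e)
    obtain ⟨a, ha⟩ := hcover ⟨(e₁, e), he₁⟩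
    exact ⟨⟨_, ha⟩, mul_one e⟩
  exact ⟨(MulEquiv.ofBijective f₁ ⟨hinj₁, hsurj₁⟩).symm.trans (MulEquiv.ofBijective f₂ ⟨hinj₂, hsurj₂⟩)⟩

end CfsgLib.ExtCert
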