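/-
Kernel checks for the certificates of `Lib/ExtCert/M23Data.lean`.
-/
import Mathlib
import Cfsg.Agent.Lib.Golay.Fast
import Cfsg.Agent.Lib.StemSylow.CollectGolay
import Cfsg.Agent.Lib.StemSylow.MathieuBigData
import Cfsg.Agent.Lib.ExtCert.M23Data

set_option autoImplicit false
set_option maxHeartbeats 0
set_option maxRecDepth 10000

namespace CfsgLib.ExtCert.M23

open CfsgGolay M23Data
open CfsgLib.StemSylow.Collect (evC prods distinctB)
open CfsgLib.StemSylow.MathieuBigData (gc23 tc23)

theorem code_check : codeCert.check = true := by decide +kernel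

theorem cocode_check : cocodeCert.check = true := by decide +kernel

/-- The facts of a certificate hold on codes. -/
def factsOK (C : Cert) : Bool :=
  Nat.beq (tc23.getD 0 pid) pid && (List.range C.facts.length).all fun m =>
    Nat.beq (pcomp (tc23.getD (C.fact m).1 pid) (evC gc23 (C.fact m).2.1))
      (pcomp (evC gc23 (C.fact m).2.2) (tc23.getD (C.fact m).1 pid))

theorem facts_code : factsOK codeCert = true ∧ factsOK cocodeCert = true := by decide +kernel

theorem dist : distinctB (prods gc23 7 7) = true := by decide +kernel

/-- The mask is in the code up to the extra point. -/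
def inKer (m : ℕ) : Bool := inCode m || inCode (m ^^^ 8388608)

/-- The matrices give the action on the code basis. -/
def codeActOK (cs : List ℕ) (mats : List (List ℕ)) : Bool :=
  Nat.beq cs.length mats.length && (List.range cs.length).all fun k => (List.range 11).all fun j =>
    Nat.beq (pmask (cs.getD k 0) (codeBasis.getD j 0)) (selXor codeBasis ((mats.getD k []).getD j 0))

/-- The matrices give the action on the dual basis modulo the kernel. -/
def cocodeActOK (cs : List ℕ) (mats : List (List ℕ)) : Bool :=
  Nat.beq cs.length mats.length && (List.range cs.length).all fun k => (List.range 11).all fun j =>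
    inKer (pmask (cs.getD k 0) (dualBasis.getD j 0) ^^^ selXor dualBasis ((mats.getD k []).getD j 0)) &&
      Nat.blt (pmask (cs.getD k 0) (dualBasis.getD j 0) ^^^ selXor dualBasis ((mats.getD k []).getD j 0)) (2 ^ 24)

/-- The cocode coordinates of the points. -/
def unitCoord : List ℕ :=
  [1141, 1183, 1355, 1763, 435, 870, 1740, 493, 986, 1972, 797, 1594, 1, 2, 4, 8, 16, 32, 64, 128, 256, 512, 1024, 0]

theorem act_code : codeActOK gc23 codeCert.gm = true ∧ codeActOK tc23 codeCert.tm = true := by decide +kernel

theorem act_cocode : cocodeActOK gc23 cocodeCert.gm = true ∧ cocodeActOK tc23 cocodeCert.tm = true := by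
  decide +kernel

theorem code_basis : codeBasis.length = 11 ∧
    ((List.range 11).all fun j => inCode (codeBasis.getD j 0) && Nat.blt (codeBasis.getD j 0) 8388608) = true ∧
    ((List.range 11).all fun j => (List.range 11).all fun i =>
      bit (codeBasis.getD j 0) (12 + i) == Nat.beq i j) = true ∧
    (codeL.all fun m => bit m 23 || Nat.beq m (selXor codeBasis (Nat.mod (Nat.shiftRight m 12) 2048))) = true := by
  decide +kernel

theorem dual_basis : dualBasis.length = 11 ∧
    ((List.range 24).all fun i => inKer (2 ^ i ^^^ selXor dualBasis (unitCoord.getD i 0)) &&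
      Nat.blt (2 ^ i ^^^ selXor dualBasis (unitCoord.getD i 0)) (2 ^ 24)) = true ∧
    ((List.range 2048).all fun m => Nat.beq m 0 || !inKer (selXor dualBasis m)) = true ∧
    ((List.range 2048).all fun m => Nat.blt (selXor dualBasis m) 8388608) = true := by
  decide +kernel

end CfsgLib.ExtCert.M23
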