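/-
Extensions of M23 by the code and cocode modules.
-/
import Mathlib
import Cfsg.Agent.Lib.Golay.Modules
import Cfsg.Agent.Lib.StemSylow.MathieuBig
import Cfsg.Agent.Lib.ExtCert.Ext
import Cfsg.Agent.Lib.ExtCert.M23Checks

set_option autoImplicit false
set_option maxHeartbeats 1000000
set_option linter.style.haveILetI false
set_option linter.unusedSectionVars false

namespace CfsgLib.ExtCert.M23

open CfsgGolay Cfsg M23Data
open CfsgLib.StemSylow (MathieuBig.exists23 MathieuBig.card23)
open CfsgLib.StemSylow.Collect (ev evC repr_ev prods distinctB nodup_of_distinctB length_prods code_eq pid_lt)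
open CfsgLib.StemSylow.MathieuBigData (gc23 tc23)

attribute [local irreducible] evC pid pcomp papp pmask codeL codeCert cocodeCert

/-- The word with given coordinates in a basis. -/
def comb (B : List ℕ) (a : Fin 11 → ZMod 2) : GolayPt → ZMod 2 :=
  ∑ j : Fin 11, a j • wordOf (B.getD j 0)

theorem comb_add (B : List ℕ) (a b : Fin 11 → ZMod 2) : comb B (a + b) = comb B a + comb B b := by
  simp [comb, add_smul, Finset.sum_add_distrib]

theorem bit_eq (m i : ℕ) : bit m i = m.testBit i := bitF_eq m i

theorem wordOf_selXor : ∀ (B : List ℕ) (m : ℕ),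
    wordOf (selXor B m) = ∑ j ∈ Finset.range B.length, bz (bit m j) • wordOf (B.getD j 0)
  | [], m => by simp [selXor, wordOf_zero]
  | b :: B, m => by
    rw [selXor, wordOf_xor, wordOf_selXor B, List.length_cons, Finset.sum_range_succ', add_comm]
    simp only [List.getD_cons_succ, List.getD_cons_zero, bit_eq]
    congr 1
    · refine Finset.sum_congr rfl fun j _ => ?_
      rw [show Nat.div m 2 = m / 2 from rfl, ← Nat.testBit_succ]
    · have h0 : Nat.beq (Nat.mod m 2) 1 = m.testBit 0 := by
        rw [show Nat.beq (Nat.mod m 2) 1 = bit m 0 from rfl, bit_eq]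
      rw [h0]
      cases m.testBit 0 <;> simp [bz, wordOf_zero]

theorem wordOf_selXor_eleven {B : List ℕ} (hB : B.length = 11) (m : ℕ) :
    wordOf (selXor B m) = comb B fun j => bz (bit m j) := by
  rw [wordOf_selXor, hB, Finset.sum_range]; rfl

theorem comb_act {B : List ℕ} (hB : B.length = 11) (mm : List ℕ) (a : Fin 11 → ZMod 2) :
    comb B (act 11 mm a) = ∑ j : Fin 11, a j • wordOf (selXor B (mm.getD j 0)) := by
  simp only [wordOf_selXor_eleven hB, comb, act, Finset.smul_sum, Finset.sum_smul, smul_smul]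
  rw [Finset.sum_comm]
  refine Finset.sum_congr rfl fun j _ => Finset.sum_congr rfl fun i _ => ?_
  rw [mul_comm]

theorem comb_comp (B : List ℕ) (a : Fin 11 → ZMod 2) {c : ℕ} {g : Equiv.Perm GolayPt} (hg : Repr c g) :
    comb B a ∘ ⇑g⁻¹ = ∑ j : Fin 11, a j • wordOf (pmask c (B.getD j 0)) := by
  funext p
  simp only [Function.comp_apply, comb, Finset.sum_apply, Pi.smul_apply]
  refine Finset.sum_congr rfl fun j _ => ?_
  rw [← wordOf_comp_symm hg]
  rfl

theorem pt_none : pt 23 = none := rfl

theorem wordOf_at (m : ℕ) {i : ℕ} (hi : i < 24) : wordOf m (pt i) = bz (bit m i) := by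
  rw [wordOf, idx_pt hi, bit_eq]
  cases m.testBit i <;> rfl

theorem comb_at (B : List ℕ) (a : Fin 11 → ZMod 2) {i : ℕ} (hi : i < 24) :
    comb B a (pt i) = ∑ j : Fin 11, a j * bz (bit (B.getD j 0) i) := by
  simp [comb, Finset.sum_apply, wordOf_at _ hi]

/-- Generators of the Sylow subgroup and fusion elements as elements of M23. -/
theorem exists_gens : ∃ g t : ℕ → Spor.M23, (∀ k, Repr (gc23.getD k pid) (g k : Equiv.Perm GolayPt)) ∧
    (∀ k, Repr (tc23.getD k pid) (t k : Equiv.Perm GolayPt)) := by
  have hex : ∀ (l : List ℕ), (∀ c ∈ l, ∃ g : Spor.M23, Repr c (g : Equiv.Perm GolayPt)) →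
      ∀ k, ∃ g : Spor.M23, Repr (l.getD k pid) (g : Equiv.Perm GolayPt) := by
    intro l hl k
    rcases Nat.lt_or_ge k l.length with h | h
    · exact hl _ (by rw [List.getD_eq_getElem _ _ h]; exact List.getElem_mem h)
    · exact ⟨1, by rw [List.getD_eq_default _ _ h]; simpa using repr_pid⟩
  choose g hg using hex gc23 fun c hc =>
    MathieuBig.exists23 (List.mem_append_left _ (List.mem_append_left _ hc))
  choose t ht using hex tc23 fun c hc =>
    MathieuBig.exists23 (List.mem_append_left _ (List.mem_append_right _ hc))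
  exact ⟨g, t, hg, ht⟩

variable {g t : ℕ → Spor.M23} (hg : ∀ k, Repr (gc23.getD k pid) (g k : Equiv.Perm GolayPt))
  (ht : ∀ k, Repr (tc23.getD k pid) (t k : Equiv.Perm GolayPt))

include hg ht in
theorem facts_hold (C : Cert) (h : factsOK C = true) : t 0 = 1 ∧ ∀ m < C.facts.length,
    t (C.fact m).1 * ev g (C.fact m).2.1 = ev g (C.fact m).2.2 * t (C.fact m).1 := by
  simp only [factsOK, Bool.and_eq_true, List.all_eq_true, List.mem_range] at h
  refine ⟨Subtype.ext ((ht 0).unique (by rw [Nat.eq_of_beq_eq_true h.1]; simpa using repr_pid)), fun m hm => ?_⟩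
  refine Subtype.ext (Repr.unique (c := pcomp (tc23.getD (C.fact m).1 pid) (evC gc23 (C.fact m).2.1)) ?_ ?_)
  · rw [Subgroup.coe_mul]; exact (ht _).comp (repr_ev hg _)
  · rw [Nat.eq_of_beq_eq_true (h.2 m hm), Subgroup.coe_mul]; exact (repr_ev hg _).comp (ht _)

include hg in
theorem sylow_low : 2 ^ 7 ≤ Nat.card (Subgroup.closure (g '' {k | k < 7})) := by
  classical
  have hprods : ∀ d ≤ 7, ∀ c ∈ prods gc23 7 d,
      c < 2 ^ 120 ∧ ∃ x ∈ Subgroup.closure (g '' {k | k < 7}), Repr c (x : Equiv.Perm GolayPt) := by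
    intro d hd
    induction d with
    | zero =>
      intro c hc
      simp only [prods, List.mem_singleton] at hc
      subst hc
      exact ⟨pid_lt, 1, one_mem _, by simpa using repr_pid⟩
    | succ d ih =>
      intro c hc
      rcases List.mem_append.mp hc with hc | hc
      · exact ih (by omega) c hc
      · obtain ⟨c', hc', rfl⟩ := List.mem_map.mp hc
        obtain ⟨-, x, hx, hr⟩ := ih (by omega) c' hc'
        refine ⟨pcomp_lt _ _, g (7 - (d + 1)) * x, mul_mem (Subgroup.subset_closure ⟨_, ?_, rfl⟩) hx, ?_⟩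
        · show 7 - (d + 1) < 7
          omega
        · rw [Subgroup.coe_mul]; exact (hg _).comp hr
  choose x hx hxr using fun c (hc : c ∈ prods gc23 7 7) => (hprods 7 le_rfl c hc).2
  let F : {c // c ∈ prods gc23 7 7} → Subgroup.closure (g '' {k | k < 7}) := fun c => ⟨x c.1 c.2, hx c.1 c.2⟩
  have hF : Function.Injective F := fun a b h => Subtype.ext (code_eq (hprods 7 le_rfl _ a.2).1
    (hprods 7 le_rfl _ b.2).1 (hxr a.1 a.2) (by
      have e : x a.1 a.2 = x b.1 b.2 := congrArg Subtype.val h
      rw [e]; exact hxr b.1 b.2))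
  refine le_trans (le_of_eq ?_) (Nat.card_le_card_of_injective F hF)
  rw [Nat.subtype_card (prods gc23 7 7).toFinset (fun c => List.mem_toFinset),
    List.toFinset_card_of_nodup (nodup_of_distinctB dist), length_prods]

include hg ht in
theorem sylow_odd (C : Cert) (hC : C.check = true) (hn : C.n = 7) (hf : factsOK C = true) :
    Odd (Subgroup.closure (g '' {k | k < 7})).index := by
  obtain ⟨ht0, hfacts⟩ := facts_hold hg ht C hf
  have hup := card_le_of_rels C g hC fun i j hij hj => by
    simp only [Cert.check, Bool.and_eq_true, List.all_eq_true, List.mem_range, Bool.or_eq_true, Nat.blt_eq] at hC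
    have hr := (hC.2 i (by omega) j hj).resolve_left (by omega)
    simp only [Cert.relOK, Cert.isRel, Bool.and_eq_true, decide_eq_true_eq, Nat.blt_eq] at hr
    obtain ⟨⟨⟨⟨hlt, h0⟩, hq⟩, -⟩, -⟩ := hr
    have := hfacts _ hlt
    rwa [Nat.eq_of_beq_eq_true h0, ht0, one_mul, mul_one, hq] at this
  rw [hn] at hup
  have h := (Subgroup.closure (g '' {k | k < 7})).card_mul_index
  rw [le_antisymm hup (sylow_low hg), MathieuBig.card23] at h
  rw [show (Subgroup.closure (g '' {k | k < 7})).index = 79695 by omega]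
  decide

end CfsgLib.ExtCert.M23
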