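/-
Extensions of M23 by the code module split.
-/
import Mathlib
import Cfsg.Agent.Lib.ExtCert.M23

set_option autoImplicit false
set_option maxHeartbeats 1000000
set_option linter.style.haveILetI false

namespace CfsgLib.ExtCert.M23

open CfsgGolay Cfsg M23Data
open CfsgLib.StemSylow.Collect (ev evC)
open CfsgLib.StemSylow.MathieuBigData (gc23 tc23)

attribute [local irreducible] evC pid pcomp papp pmask codeL codeCert cocodeCert

theorem cert_dim : codeCert.d = 11 ∧ codeCert.n = 7 := by
  unfold codeCert; exact ⟨rfl, rfl⟩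

theorem codeBasis_spec (j : Fin 11) :
    wordOf (codeBasis.getD j 0) ∈ golayCode ∧ wordOf (codeBasis.getD j 0) none = 0 ∧
      ∀ i : Fin 11, bz (bit (codeBasis.getD j 0) (12 + i)) = if i = j then 1 else 0 := by
  obtain ⟨-, h1, h2, -⟩ := code_basis
  simp only [List.all_eq_true, List.mem_range, Bool.and_eq_true, Nat.blt_eq, beq_iff_eq] at h1 h2
  obtain ⟨hc, hlt⟩ := h1 j j.2
  refine ⟨codeL_mem (mem_codeL_of_inCode (by omega) hc), ?_, fun i => ?_⟩
  · rw [← pt_none, wordOf_at _ (by norm_num), bit_eq, Nat.testBit_lt_two_pow (by omega)]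
    rfl
  · rw [h2 j j.2 i i.2]
    by_cases h : i = j
    · subst h; simp [bz]
    · rw [if_neg h]
      have : Nat.beq (i : ℕ) (j : ℕ) = false := by
        rw [← Bool.not_eq_true]; exact fun e => h (Fin.ext (Nat.eq_of_beq_eq_true e))
      simp [bz, this]

theorem comb_code_mem (a : Fin 11 → ZMod 2) : comb codeBasis a ∈ golayCode ∧ comb codeBasis a none = 0 := by
  refine ⟨Submodule.sum_mem _ fun j _ => Submodule.smul_mem _ _ (codeBasis_spec j).1, ?_⟩
  rw [comb, Finset.sum_apply]
  exact Finset.sum_eq_zero fun j _ => by rw [Pi.smul_apply, (codeBasis_spec j).2.1, smul_zero]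

theorem comb_code_inj : Function.Injective (comb codeBasis) := by
  intro a b h
  funext i
  have hc : ∀ c : Fin 11 → ZMod 2, comb codeBasis c (pt (12 + i)) = c i := fun c => by
    rw [comb_at _ _ (by omega)]
    rw [Finset.sum_congr rfl fun j _ => by rw [(codeBasis_spec j).2.2 i]]
    simp
  rw [← hc a, ← hc b, h]

theorem comb_code_surj {w : GolayPt → ZMod 2} (hw : w ∈ golayCode) (h0 : w none = 0) :
    ∃ a, comb codeBasis a = w := by
  have h4 := List.all_eq_true.mp code_basis.2.2.2 _ (toMask_support_mem hw)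
  rw [← wordOf_toMask_support w] at h0 ⊢
  set m := toMask (support₂ w)
  have hb : bit m 23 = false := by
    rw [← pt_none, wordOf_at _ (by norm_num)] at h0
    cases h : bit m 23 with
    | false => rfl
    | true => rw [h] at h0; exact absurd h0 one_ne_zero
  rw [hb, Bool.false_or] at h4
  refine ⟨fun j => bz (bit (Nat.mod (Nat.shiftRight m 12) 2048) j), ?_⟩
  rw [← wordOf_selXor_eleven code_basis.1, ← Nat.eq_of_beq_eq_true h4]

theorem actsBy_code {E : Type*} [Group E] {N : Subgroup E} [hN : N.Normal]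
    (φ : E ⧸ N ≃* ↥Spor.M23) (ψ : Additive ↥N →+ (GolayPt → ZMod 2)) (hinj : Function.Injective ψ)
    (hψ : ∀ (g : E) (n : ↥N),
      ψ (Additive.ofMul ⟨g * n * g⁻¹, hN.conj_mem n n.2 g⟩)
        = ψ (Additive.ofMul n) ∘ ⇑(((φ (QuotientGroup.mk g) : ↥Spor.M23) : Equiv.Perm GolayPt)⁻¹))
    (ι : (Fin 11 → ZMod 2) → N) (hι : ∀ a, ψ (Additive.ofMul (ι a)) = comb codeBasis a)
    (cs : List ℕ) (mats : List (List ℕ)) (hok : codeActOK cs mats = true)
    (x : ℕ → Spor.M23) (hx : ∀ k, Repr (cs.getD k pid) (x k : Equiv.Perm GolayPt))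
    (k : ℕ) (hk : k < cs.length) :
    ActsBy (φ.toMonoidHom.comp (QuotientGroup.mk' N)) (fun a => (ι a : E)) (x k) (mats.getD k []) := by
  intro e he a
  simp only [codeActOK, Bool.and_eq_true, List.all_eq_true, List.mem_range] at hok
  have hr : Repr (cs.getD k 0) (x k : Equiv.Perm GolayPt) := by
    have := hx k
    rwa [List.getD_eq_getElem _ _ hk] at this ⊢
  have hconj : ψ (Additive.ofMul ⟨e * ι a * e⁻¹, hN.conj_mem _ (ι a).2 e⟩) =
      ψ (Additive.ofMul (ι (act 11 (mats.getD k []) a))) := by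
    rw [hψ, hι, hι, show φ (QuotientGroup.mk e) = x k from he, comb_comp _ _ hr, comb_act code_basis.1]
    refine Finset.sum_congr rfl fun j _ => ?_
    rw [Nat.eq_of_beq_eq_true (hok.2 k hk j j.2)]
  have h : e * ι a * e⁻¹ = (ι (act 11 (mats.getD k []) a) : E) :=
    congrArg (fun z : Additive ↥N => (z.toMul : E)) (hinj hconj)
  show e * (ι a : E) = (ι (act 11 (mats.getD k []) a) : E) * e
  rw [← h, inv_mul_cancel_right]

theorem act_default {n : ℕ} (a : Fin n → ZMod 2) : act n ((List.range n).map fun i => 2 ^ i) a = a := by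
  funext i
  rw [act, Finset.sum_eq_single i]
  · simp [bit_eq, bz, List.getD_eq_getElem]
  · intro j _ hj
    simp [bit_eq, bz, List.getD_eq_getElem, Nat.testBit_two_pow, show ¬(j : ℕ) = i from fun h => hj (Fin.ext h)]
  · simp

theorem split_code {E : Type*} [Group E] [Finite E] (N : Subgroup E) [hN : N.Normal]
    (φ : E ⧸ N ≃* ↥Spor.M23)
    (ψ : Additive ↥N →+ (GolayPt → ZMod 2)) (hinj : Function.Injective ψ)
    (hrange : ∀ w : GolayPt → ZMod 2, w ∈ Set.range ψ ↔ (w ∈ golayCode ∧ w none = 0))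
    (hψ : ∀ (g : E) (n : ↥N),
      ψ (Additive.ofMul ⟨g * n * g⁻¹, hN.conj_mem n n.2 g⟩)
        = ψ (Additive.ofMul n) ∘ ⇑(((φ (QuotientGroup.mk g) : ↥Spor.M23) : Equiv.Perm GolayPt)⁻¹)) :
    ∃ H : Subgroup E, H ⊓ N = ⊥ ∧ H ⊔ N = ⊤ := by
  classical
  obtain ⟨g, t, hg, ht⟩ := exists_gens
  choose ιA hιA using fun a => (hrange (comb codeBasis a)).mpr (comb_code_mem a)
  set π := φ.toMonoidHom.comp (QuotientGroup.mk' N) with hπ
  have hker : π.ker = N := by
    ext e
    simp [hπ, MonoidHom.mem_ker, QuotientGroup.eq_one_iff]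
  let ι : (Fin 11 → ZMod 2) → E := fun a => ((ιA a).toMul : E)
  have hE : IsExt π ι := by
    refine ⟨φ.surjective.comp (QuotientGroup.mk'_surjective N), fun a b => ?_, fun a b h => ?_, fun e => ?_⟩
    · have : ιA (a + b) = ιA a + ιA b := hinj (by rw [map_add, hιA, hιA, hιA, comb_add])
      simp [ι, this]
    · refine comb_code_inj ?_
      rw [← hιA, ← hιA, show ιA a = ιA b from congrArg Additive.ofMul (Subtype.ext h)]
    · rw [← MonoidHom.mem_ker, hker]
      refine ⟨fun he => ?_, by rintro ⟨a, rfl⟩; exact (ιA a).toMul.2⟩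
      obtain ⟨hw, h0⟩ := (hrange _).mp ⟨Additive.ofMul ⟨e, he⟩, rfl⟩
      obtain ⟨a, ha⟩ := comb_code_surj hw h0
      exact ⟨a, congrArg (fun z : Additive ↥N => (z.toMul : E)) (hinj ((hιA a).trans ha))⟩
  obtain ⟨hd, hn⟩ := cert_dim
  have key : ∀ (C : Cert), C.check = true → C.d = 11 → C.n = 7 → C.r0 = [] →
      factsOK C = true → codeActOK gc23 C.gm = true → codeActOK tc23 C.tm = true →
      ∃ H : Subgroup E, H ⊓ π.ker = ⊥ ∧ H ⊔ π.ker = ⊤ := by
    rintro ⟨n, d, fuel, facts, gm, tm, eqs, rows, s, combos, r0, lam⟩ hC hd hn hr0 hf hag hat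
    simp only at hd hn hr0
    subst hd hn hr0
    have hlen : ∀ (cs : List ℕ) (mats : List (List ℕ)), codeActOK cs mats = true → cs.length = mats.length := by
      intro cs mats h
      simp only [codeActOK, Bool.and_eq_true] at h
      exact Nat.eq_of_beq_eq_true h.1
    have hacts : ∀ (cs : List ℕ) (mats : List (List ℕ)), codeActOK cs mats = true → ∀ (x : ℕ → Spor.M23),
        (∀ k, Repr (cs.getD k pid) (x k : Equiv.Perm GolayPt)) →
        ∀ k, ActsBy π ι (x k) (mats.getD k ((List.range 11).map fun i => 2 ^ i)) := by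
      intro cs mats h x hx k
      rcases Nat.lt_or_ge k cs.length with hk | hk
      · have := actsBy_code φ ψ hinj hψ (fun a => (ιA a).toMul) hιA cs mats h x hx k hk
        rwa [List.getD_eq_getElem _ _ (hlen cs mats h ▸ hk)] at this ⊢
      · intro e he a
        have hx1 : x k = 1 := Subtype.ext ((hx k).unique (by
          rw [List.getD_eq_default _ _ hk]; simpa using repr_pid))
        rw [List.getD_eq_default _ _ (hlen cs mats h ▸ hk), act_default]
        exact hE.comm (by rw [he, hx1]) (hE.pi_iota a)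
    obtain ⟨ht0, hfacts⟩ := facts_hold hg ht _ hf
    obtain ⟨G', c, hG', hrel⟩ := exists_lifts _ hC hE g t ht0 (hacts gc23 gm hag g hg) (hacts tc23 tm hat t ht) hfacts
    refine exists_complement hE _ hC G' (fun i j hij hj => ?_) ?_ ?_
    · refine (hrel i j hij hj).trans ?_
      have h0 : ∀ m, c • Cert.r0v ⟨7, 11, fuel, facts, gm, tm, eqs, rows, s, combos, [], lam⟩ m = 0 :=
        fun m => funext fun x => by simp [Cert.r0v, Cert.r0at, bit_eq, bz]
      rw [h0, hE.iota_zero, one_mul]
    · rw [show (fun k => π (G' k)) = g from funext hG']; exact sylow_low hg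
    · rw [show (fun k => π (G' k)) = g from funext hG']; exact sylow_odd hg ht _ hC rfl hf
  rw [hker] at key
  exact key _ code_check hd hn (by unfold codeCert; rfl) facts_code.1 act_code.1 act_code.2

end CfsgLib.ExtCert.M23
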