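/-
Extensions of M23 by the cocode module: at most one non-split one.
-/
import Mathlib
import Cfsg.Agent.Lib.ExtCert.M23Code

set_option autoImplicit false
set_option maxHeartbeats 1000000
set_option linter.style.haveILetI false

namespace CfsgLib.ExtCert.M23

open CfsgGolay Cfsg M23Data
open CfsgLib.StemSylow.Collect (ev evC)
open CfsgLib.StemSylow.MathieuBigData (gc23 tc23)

attribute [local irreducible] evC pid pcomp papp pmask codeL inCode selXor codeCert cocodeCert

/-- Zero in the cocode module. -/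
def InKerW (w : GolayPt → ZMod 2) : Prop := w ∈ golayCode ∨ w + Pi.single none 1 ∈ golayCode

theorem inKerW_iff {m : ℕ} (hm : m < 2 ^ 24) : InKerW (wordOf m) ↔ inKer m = true := by
  have h1 : ∀ k < 2 ^ 24, wordOf k ∈ golayCode ↔ inCode k = true := fun k hk =>
    ⟨fun h => by simpa [support_wordOf, toMask_toSet hk] using inCode_of_mem h,
      fun h => codeL_mem (mem_codeL_of_inCode hk h)⟩
  have h2 : wordOf m + Pi.single none 1 = wordOf (m ^^^ 8388608) := by
    rw [wordOf_xor, show (8388608 : ℕ) = 2 ^ 23 by norm_num, wordOf_two_pow (by norm_num), pt_none]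
  rw [InKerW, h2, h1 m hm, h1 _ (Nat.xor_lt_two_pow hm (by norm_num)), inKer, Bool.or_eq_true]

theorem exists_bits (a : Fin 11 → ZMod 2) : ∃ m < 2048, a = fun j : Fin 11 => bz (bit m (j : ℕ)) := by
  refine ⟨Nat.ofBits fun j => decide (a j = 1), Nat.ofBits_lt_two_pow _, funext fun j => ?_⟩
  rw [bit_eq, Nat.testBit_ofBits_lt _ _ j.2]
  generalize a j = x
  revert x
  decide

theorem zmod_two : ∀ x : ZMod 2, x = 0 ∨ x = 1 := by decide

theorem dual_inj {a : Fin 11 → ZMod 2} (h : InKerW (comb dualBasis a)) : a = 0 := by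
  obtain ⟨hlen, -, h2, h3⟩ := dual_basis
  simp only [List.all_eq_true, List.mem_range, Nat.blt_eq, Bool.or_eq_true] at h2 h3
  obtain ⟨m, hm, rfl⟩ := exists_bits a
  rw [← wordOf_selXor_eleven hlen, inKerW_iff (by have := h3 m hm; omega)] at h
  rcases h2 m hm with h0 | h0
  · funext j; simp [Nat.eq_of_beq_eq_true h0, bit_eq, bz]
  · simp [h] at h0

variable {E : Type*} [Group E] {N : Subgroup E} (θ : (GolayPt → ZMod 2) →+ Additive ↥N)
  (hker : ∀ w : GolayPt → ZMod 2, θ w = 0 ↔ InKerW w)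

include hker in
theorem theta_congr {u w : GolayPt → ZMod 2} (h : InKerW (u + w)) : θ u = θ w := by
  have h0 := (hker _).mpr h
  rw [map_add] at h0
  have h2 : θ w + θ w = 0 := by rw [← map_add, CharTwo.add_self_eq_zero, map_zero]
  exact add_right_cancel (h0.trans h2.symm)

include hker in
theorem theta_surj (w : GolayPt → ZMod 2) : ∃ a, θ w = θ (comb dualBasis a) := by
  obtain ⟨hlen, h1, -, -⟩ := dual_basis
  simp only [List.all_eq_true, List.mem_range, Bool.and_eq_true, Nat.blt_eq] at h1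
  have hw : w = ∑ p : GolayPt, w p • (Pi.single p 1 : GolayPt → ZMod 2) := by
    funext q; simp [Finset.sum_apply, Pi.single_apply]
  rw [hw]
  refine Finset.sum_induction _ (fun v => ∃ a, θ v = θ (comb dualBasis a)) ?_ ⟨0, by simp [comb]⟩ fun p _ => ?_
  · rintro u v ⟨a, ha⟩ ⟨b, hb⟩
    exact ⟨a + b, by rw [map_add, ha, hb, comb_add, map_add]⟩
  · obtain ⟨hk, hlt⟩ := h1 (idx p) (idx_lt p)
    have hb : θ (Pi.single p 1) = θ (comb dualBasis fun j => bz (bit (unitCoord.getD (idx p) 0) j)) := by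
      rw [← wordOf_selXor_eleven hlen, ← congrArg (fun q => (Pi.single q 1 : GolayPt → ZMod 2)) (pt_idx p),
        ← wordOf_two_pow (idx_lt p)]
      exact theta_congr θ hker (by rw [← wordOf_xor]; exact (inKerW_iff hlt).mpr hk)
    rcases zmod_two (w p) with hx | hx <;> rw [hx]
    · exact ⟨0, by simp [comb]⟩
    · exact ⟨_, by rw [one_smul]; exact hb⟩

theorem theta_sum {ι' : Type*} (s : Finset ι') (u v : ι' → GolayPt → ZMod 2) (h : ∀ j ∈ s, θ (u j) = θ (v j)) :
    θ (∑ j ∈ s, u j) = θ (∑ j ∈ s, v j) := by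
  classical
  induction s using Finset.induction_on with
  | empty => simp
  | insert a s ha ih =>
    rw [Finset.sum_insert ha, Finset.sum_insert ha, map_add, map_add, h a (Finset.mem_insert_self a s),
      ih fun j hj => h j (Finset.mem_insert_of_mem hj)]

variable [hN : N.Normal] (φ : E ⧸ N ≃* ↥Spor.M23)
  (hθ : ∀ (g : E) (w : GolayPt → ZMod 2),
      ((θ (w ∘ ⇑(((φ (QuotientGroup.mk g) : ↥Spor.M23) : Equiv.Perm GolayPt)⁻¹))).toMul : E)
        = g * ((θ w).toMul : E) * g⁻¹)

include hker hθ in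
theorem actsBy_cocode (cs : List ℕ) (mats : List (List ℕ)) (hok : cocodeActOK cs mats = true)
    (x : ℕ → Spor.M23) (hx : ∀ k, Repr (cs.getD k pid) (x k : Equiv.Perm GolayPt)) (k : ℕ) (hk : k < cs.length) :
    ActsBy (φ.toMonoidHom.comp (QuotientGroup.mk' N)) (fun a => ((θ (comb dualBasis a)).toMul : E)) (x k)
      (mats.getD k []) := by
  intro e he a
  simp only [cocodeActOK, Bool.and_eq_true, List.all_eq_true, List.mem_range, Nat.blt_eq] at hok
  have hr : Repr (cs.getD k 0) (x k : Equiv.Perm GolayPt) := by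
    have := hx k
    rwa [List.getD_eq_getElem _ _ hk] at this ⊢
  have hw : θ (comb dualBasis a ∘ ⇑((x k : Equiv.Perm GolayPt))⁻¹) =
      θ (comb dualBasis (act 11 (mats.getD k []) a)) := by
    rw [comb_comp _ _ hr, comb_act dual_basis.1]
    refine theta_sum θ _ _ _ fun j _ => ?_
    obtain ⟨h1, h2⟩ := hok.2 k hk j j.2
    rcases zmod_two (a j) with hy | hy <;> rw [hy]
    · simp
    · rw [one_smul, one_smul]
      exact theta_congr θ hker (by rw [← wordOf_xor]; exact (inKerW_iff h2).mpr h1)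
  have h := hθ e (comb dualBasis a)
  rw [show φ (QuotientGroup.mk e) = x k from he, hw] at h
  show e * ((θ (comb dualBasis a)).toMul : E) = ((θ (comb dualBasis (act 11 (mats.getD k []) a))).toMul : E) * e
  rw [h, inv_mul_cancel_right]

include hker hθ in
theorem isExt_cocode (hsurj : Function.Surjective θ) :
    IsExt (φ.toMonoidHom.comp (QuotientGroup.mk' N)) (fun a => ((θ (comb dualBasis a)).toMul : E)) := by
  refine ⟨φ.surjective.comp (QuotientGroup.mk'_surjective N), fun a b => by simp [comb_add], fun a b h => ?_, fun e => ?_⟩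
  · have h' : θ (comb dualBasis a) = θ (comb dualBasis b) := congrArg Additive.ofMul (Subtype.ext h)
    have h0 : a + b = 0 := dual_inj ((hker _).mp (by
      rw [comb_add, map_add, h', ← map_add, CharTwo.add_self_eq_zero, map_zero]))
    funext j
    exact CharTwo.add_eq_zero.mp (congrFun h0 j)
  · simp only [MonoidHom.coe_comp, MulEquiv.coe_toMonoidHom, Function.comp_apply, QuotientGroup.mk'_apply,
      map_eq_one_iff φ φ.injective, QuotientGroup.eq_one_iff]
    refine ⟨fun he => ?_, by rintro ⟨a, rfl⟩; exact (θ _).toMul.2⟩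
    obtain ⟨w, hw⟩ := hsurj (Additive.ofMul ⟨e, he⟩)
    obtain ⟨a, ha⟩ := theta_surj θ hker w
    exact ⟨a, congrArg (fun z : Additive ↥N => (z.toMul : E)) (ha.symm.trans hw)⟩

include hker hθ in
/-- A non-split extension has lifts with the standard class over the Sylow group. -/
theorem exists_std_lifts [Finite E] (hsurj : Function.Surjective θ)
    (hns : ∀ H : Subgroup E, H ⊓ N = ⊥ → H ⊔ N ≠ ⊤) (C : Cert) (hC : C.check = true) (hn : C.n = 7)
    (hd : C.d = 11) (hf : factsOK C = true) (hag : cocodeActOK gc23 C.gm = true) (hat : cocodeActOK tc23 C.tm = true)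
    {g t : ℕ → Spor.M23} (hg : ∀ k, Repr (gc23.getD k pid) (g k : Equiv.Perm GolayPt))
    (ht : ∀ k, Repr (tc23.getD k pid) (t k : Equiv.Perm GolayPt)) :
    ∃ G' : ℕ → E, (∀ k, φ (QuotientGroup.mk (G' k)) = g k) ∧ ∀ i j, i ≤ j → j < C.n → ev G' [j, i] =
      ((θ (comb dualBasis fun c => bz (bit (C.r0at (C.rel i j)) c))).toMul : E) *
        ev G' (C.fact (C.rel i j)).2.2 := by
  classical
  have hE := isExt_cocode θ hker φ hθ hsurj
  obtain ⟨n, d, fuel, facts, gm, tm, eqs, rows, s, combos, r0, lam⟩ := C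
  simp only at hn hd hag hat
  subst hn hd
  have hacts : ∀ (cs : List ℕ) (mats : List (List ℕ)), cocodeActOK cs mats = true → ∀ (x : ℕ → Spor.M23),
      (∀ k, Repr (cs.getD k pid) (x k : Equiv.Perm GolayPt)) →
      ∀ k, ActsBy (φ.toMonoidHom.comp (QuotientGroup.mk' N)) (fun a => ((θ (comb dualBasis a)).toMul : E)) (x k)
        (mats.getD k ((List.range 11).map fun i => 2 ^ i)) := by
    intro cs mats h x hx k
    have hlen : cs.length = mats.length := by
      simp only [cocodeActOK, Bool.and_eq_true] at h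
      exact Nat.eq_of_beq_eq_true h.1
    rcases Nat.lt_or_ge k cs.length with hk | hk
    · have := actsBy_cocode θ hker φ hθ cs mats h x hx k hk
      rwa [List.getD_eq_getElem _ _ (hlen ▸ hk)] at this ⊢
    · intro e he a
      have hx1 : x k = 1 := Subtype.ext ((hx k).unique (by
        rw [List.getD_eq_default _ _ hk]; simpa using repr_pid))
      rw [List.getD_eq_default _ _ (hlen ▸ hk), act_default]
      exact hE.comm (by rw [he, hx1]) (hE.pi_iota a)
  obtain ⟨ht0, hfacts⟩ := facts_hold hg ht _ hf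
  obtain ⟨G', c, hG', hrel⟩ := exists_lifts _ hC hE g t ht0 (hacts gc23 gm hag g hg) (hacts tc23 tm hat t ht) hfacts
  rcases zmod_two c with rfl | rfl
  · exfalso
    obtain ⟨H, h1, h2⟩ := exists_complement hE _ hC G' (fun i j hij hj => by
        refine (hrel i j hij hj).trans ?_
        simp [comb]) (by
        rw [show (fun k => (φ.toMonoidHom.comp (QuotientGroup.mk' N)) (G' k)) = g from funext hG']
        exact sylow_low hg) (by
        rw [show (fun k => (φ.toMonoidHom.comp (QuotientGroup.mk' N)) (G' k)) = g from funext hG']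
        exact sylow_odd hg ht _ hC rfl hf)
    have hk : (φ.toMonoidHom.comp (QuotientGroup.mk' N)).ker = N := by
      ext x; simp [MonoidHom.mem_ker, QuotientGroup.eq_one_iff]
    rw [hk] at h1 h2
    exact hns H h1 h2
  · refine ⟨G', hG', fun i j hij hj => (hrel i j hij hj).trans ?_⟩
    rw [one_smul]
    rfl

theorem unique_cocode {E : Type*} [Group E] [Finite E] (N : Subgroup E) [hN : N.Normal]
    (φ : E ⧸ N ≃* ↥Spor.M23) (θ : (GolayPt → ZMod 2) →+ Additive ↥N)
    (hsurj : Function.Surjective θ) (hker : ∀ w : GolayPt → ZMod 2, θ w = 0 ↔ InKerW w)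
    (hθ : ∀ (g : E) (w : GolayPt → ZMod 2),
      ((θ (w ∘ ⇑(((φ (QuotientGroup.mk g) : ↥Spor.M23) : Equiv.Perm GolayPt)⁻¹))).toMul : E)
        = g * ((θ w).toMul : E) * g⁻¹)
    (hns : ∀ H : Subgroup E, H ⊓ N = ⊥ → H ⊔ N ≠ ⊤)
    {E' : Type*} [Group E'] [Finite E'] (N' : Subgroup E') [hN' : N'.Normal]
    (φ' : E' ⧸ N' ≃* ↥Spor.M23) (θ' : (GolayPt → ZMod 2) →+ Additive ↥N')
    (hsurj' : Function.Surjective θ') (hker' : ∀ w : GolayPt → ZMod 2, θ' w = 0 ↔ InKerW w)
    (hθ' : ∀ (g : E') (w : GolayPt → ZMod 2),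
      ((θ' (w ∘ ⇑(((φ' (QuotientGroup.mk g) : ↥Spor.M23) : Equiv.Perm GolayPt)⁻¹))).toMul : E')
        = g * ((θ' w).toMul : E') * g⁻¹)
    (hns' : ∀ H : Subgroup E', H ⊓ N' = ⊥ → H ⊔ N' ≠ ⊤) :
    Nonempty (E ≃* E') := by
  classical
  obtain ⟨g, t, hg, ht⟩ := exists_gens
  have hn : cocodeCert.n = 7 := by unfold cocodeCert; rfl
  have hd : cocodeCert.d = 11 := by unfold cocodeCert; rfl
  obtain ⟨G₁, hG₁, hr₁⟩ := exists_std_lifts θ hker φ hθ hsurj hns cocodeCert cocode_check hn hd facts_code.2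
    act_cocode.1 act_cocode.2 hg ht
  obtain ⟨G₂, hG₂, hr₂⟩ := exists_std_lifts θ' hker' φ' hθ' hsurj' hns' cocodeCert cocode_check hn hd facts_code.2
    act_cocode.1 act_cocode.2 hg ht
  refine iso_of_class (isExt_cocode θ hker φ hθ hsurj) (isExt_cocode θ' hker' φ' hθ' hsurj') ?_ cocodeCert
    cocode_check (fun m c => bz (bit (cocodeCert.r0at m) c)) G₁ G₂ (fun k => (hG₁ k).trans (hG₂ k).symm) hr₁ hr₂ ?_ ?_
  · intro e₁ e₂ he a
    set w := comb dualBasis a ∘ ⇑(((φ (QuotientGroup.mk e₁) : ↥Spor.M23) : Equiv.Perm GolayPt)⁻¹) with hw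
    obtain ⟨b, hb⟩ := theta_surj θ hker w
    have hb' : θ' w = θ' (comb dualBasis b) := theta_congr θ' hker' ((hker _).mp (by
      rw [map_add, hb, ← map_add, CharTwo.add_self_eq_zero, map_zero]))
    have h1 := hθ e₁ (comb dualBasis a)
    have h2 := hθ' e₂ (comb dualBasis a)
    rw [← hw, hb] at h1
    rw [show φ' (QuotientGroup.mk e₂) = φ (QuotientGroup.mk e₁) from he.symm, ← hw, hb'] at h2
    exact ⟨b, by rw [h1, inv_mul_cancel_right], by rw [h2, inv_mul_cancel_right]⟩
  · rw [show (fun k => (φ.toMonoidHom.comp (QuotientGroup.mk' N)) (G₁ k)) = g from funext hG₁, hn]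
    exact sylow_low hg
  · rw [show (fun k => (φ.toMonoidHom.comp (QuotientGroup.mk' N)) (G₁ k)) = g from funext hG₁, hn]
    exact sylow_odd hg ht _ cocode_check hn facts_code.2

end CfsgLib.ExtCert.M23
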