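/-
A factor set on the code words vanishing at the extra point (the one of the Parker loop), invariant up to
a symmetric alternating form under M23.
-/
import Mathlib
import Cfsg.Agent.Lib.ExtCert.M23Cocode

set_option autoImplicit false
set_option maxHeartbeats 1000000
set_option maxRecDepth 10000

namespace CfsgLib.ExtCert.M23

open CfsgGolay Cfsg M23Data

attribute [local irreducible] pid pcomp papp pmask codeL inCode

abbrev W11 : Type := Fin 11 → ZMod 2

/-- The second elementary symmetric function. -/
def e2 {R : Type*} [CommRing R] : (n : ℕ) → (Fin n → R) → R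
  | 0, _ => 0
  | n + 1, u => u 0 * (∑ i : Fin n, u i.succ) + e2 n fun i => u i.succ

theorem e2_add {R : Type*} [CommRing R] : ∀ (n : ℕ) (u v : Fin n → R),
    e2 n (u + v) = e2 n u + e2 n v + ((∑ i, u i) * (∑ i, v i) - ∑ i, u i * v i)
  | 0, u, v => by simp [e2]
  | n + 1, u, v => by
    simp only [e2, Fin.sum_univ_succ, Pi.add_apply, Finset.sum_add_distrib]
    rw [show (fun i : Fin n => u i.succ + v i.succ) = (fun i : Fin n => u i.succ) + fun i : Fin n => v i.succ from rfl,
      e2_add n]
    ring

/-- The linear terms of the factor set, as masks. -/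
def dMask : List ℕ := [512, 4, 0, 32, 64, 0, 0, 0, 1024, 0, 0]

/-- The contributions of the basis at a point. -/
def loc (x : W11) (p : GolayPt) : W11 := fun i => x i * wordOf (codeBasis.getD i 0) p

/-- The factor set. -/
def phi (x y : W11) : ZMod 2 :=
  (∑ p, comb codeBasis y p * e2 11 (loc x p)) +
    ∑ i : Fin 11, x i * ∑ k : Fin 11, bz (bit (dMask.getD i 0) k) * y k

/-- The triple intersection form. -/
def tri (x y z : W11) : ZMod 2 := ∑ p, comb codeBasis x p * comb codeBasis y p * comb codeBasis z p

theorem basis_orth : ∀ i k : Fin 11,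
    ∑ p, wordOf (codeBasis.getD i 0) p * wordOf (codeBasis.getD k 0) p = 0 := by decide +kernel

theorem basis_sum : ∀ i : Fin 11, ∑ p, wordOf (codeBasis.getD i 0) p = 0 := by decide +kernel

theorem comb_apply (x : W11) (p : GolayPt) : comb codeBasis x p = ∑ i, loc x p i := by
  simp [comb, loc, Finset.sum_apply]

theorem comb_orth (i : Fin 11) (z : W11) : ∑ p, wordOf (codeBasis.getD i 0) p * comb codeBasis z p = 0 := by
  simp only [comb, Finset.sum_apply, Pi.smul_apply, smul_eq_mul, Finset.mul_sum]
  rw [Finset.sum_comm]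
  refine Finset.sum_eq_zero fun k _ => ?_
  simp only [mul_left_comm _ (z k)]
  rw [← Finset.mul_sum, basis_orth i k, mul_zero]

theorem phi_add_left (x y z : W11) : phi (x + y) z = phi x z + phi y z + tri x y z := by
  have hloc : ∀ p, loc (x + y) p = loc x p + loc y p := fun p => funext fun i => by simp [loc, add_mul]
  have hextra : ∑ p, comb codeBasis z p * ∑ i, loc x p i * loc y p i = 0 := by
    simp only [Finset.mul_sum]
    rw [Finset.sum_comm]
    refine Finset.sum_eq_zero fun i _ => ?_
    have hsq : ∀ p, wordOf (codeBasis.getD i 0) p * wordOf (codeBasis.getD i 0) p = wordOf (codeBasis.getD i 0) p :=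
      fun p => by generalize wordOf (codeBasis.getD i 0) p = w; revert w; decide
    calc ∑ p, comb codeBasis z p * (loc x p i * loc y p i)
        = ∑ p, (x i * y i) * (wordOf (codeBasis.getD i 0) p * comb codeBasis z p) := by
          refine Finset.sum_congr rfl fun p _ => ?_
          conv_rhs => rw [← hsq p]
          simp only [loc]
          ring
      _ = 0 := by rw [← Finset.mul_sum, comb_orth, mul_zero]
  simp only [phi, hloc, e2_add, Pi.add_apply, add_mul, mul_add, mul_sub, Finset.sum_add_distrib, Finset.sum_sub_distrib,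
    hextra, ← comb_apply, tri]
  rw [show (∑ p, comb codeBasis z p * (comb codeBasis x p * comb codeBasis y p)) =
    ∑ p, comb codeBasis x p * comb codeBasis y p * comb codeBasis z p from Finset.sum_congr rfl fun p _ => by ring]
  ring

theorem phi_add_right (x y z : W11) : phi x (y + z) = phi x y + phi x z := by
  simp only [phi, comb_add, Pi.add_apply, add_mul, mul_add, Finset.sum_add_distrib]
  ring

theorem phi_zero_left (y : W11) : phi 0 y = 0 := by
  have h : ∀ p, loc 0 p = 0 := fun p => funext fun i => by simp [loc]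
  simp [phi, h, e2]

theorem tri_self (x z : W11) : tri x x z = 0 := by
  have h := phi_add_left x x z
  rw [show x + x = 0 from funext fun i => CharTwo.add_self_eq_zero (x i), phi_zero_left,
    CharTwo.add_self_eq_zero, zero_add] at h
  exact h.symm

/-- A quarter of the weight. -/
def quarter (x : W11) : ZMod 2 := ((support₂ (comb codeBasis x)).card / 4 : ℕ)

/-- Parity of `f` below a bound. -/
def parB (f : ℕ → Bool) : ℕ → Bool
  | 0 => false
  | n + 1 => xor (parB f n) (f n)

/-- The second symmetric function on bits. -/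
def e2B : ℕ → (ℕ → Bool) → Bool
  | 0, _ => false
  | n + 1, u => xor (u 0 && parB (fun i => u (i + 1)) n) (e2B n fun i => u (i + 1))

theorem bz_parB (f : ℕ → Bool) : ∀ n, ∑ i : Fin n, bz (f i) = bz (parB f n)
  | 0 => rfl
  | n + 1 => by
    rw [Fin.sum_univ_castSucc, parB]
    simp only [Fin.val_castSucc, Fin.val_last, bz_parB f n]
    cases parB f n <;> cases f n <;> rfl

theorem bz_e2B : ∀ (n : ℕ) (u : ℕ → Bool), e2 n (fun i => bz (u i)) = bz (e2B n u)
  | 0, _ => rfl
  | n + 1, u => by
    simp only [e2, e2B, Fin.val_succ, Fin.val_zero]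
    rw [bz_parB (fun i => u (i + 1)) n, bz_e2B n fun i => u (i + 1)]
    cases u 0 <;> cases parB (fun i => u (i + 1)) n <;> cases e2B n (fun i => u (i + 1)) <;> rfl

/-- The vector with the bits of `m`. -/
def bv (m : ℕ) : W11 := fun j => bz (bit m j)

theorem comb_bv (m : ℕ) : comb codeBasis (bv m) = wordOf (selXor codeBasis m) :=
  (wordOf_selXor_eleven code_basis.1 m).symm

/-- The factor set on masks. -/
def phiN (x y : ℕ) : Bool :=
  xor (parB (fun p => bit (selXor codeBasis y) p && e2B 11 fun i => bit x i && bit (codeBasis.getD i 0) p) 24)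
    (parB (fun i => bit x i && parB (fun k => bit (dMask.getD i 0) k && bit y k) 11) 11)

theorem sum_pts (F : GolayPt → ZMod 2) : ∑ p, F p = ∑ i : Fin 24, F (pt i) :=
  (Finset.sum_bij' (fun (p : GolayPt) _ => (⟨idx p, idx_lt p⟩ : Fin 24)) (fun i _ => pt i)
    (fun _ _ => Finset.mem_univ _) (fun _ _ => Finset.mem_univ _) (fun p _ => pt_idx p)
    (fun i _ => Fin.ext (idx_pt i.2)) fun p _ => by simp)

theorem bz_and (a b : Bool) : bz (a && b) = bz a * bz b := by cases a <;> cases b <;> rfl

section

attribute [local irreducible] selXor codeBasis dMask parB e2B e2 wordOf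

theorem phi_bv (x y : ℕ) : phi (bv x) (bv y) = bz (phiN x y) := by
  have hx : ∀ a b : Bool, bz (xor a b) = bz a + bz b := by decide
  rw [phiN, hx, phi, sum_pts, comb_bv, ← bz_parB, ← bz_parB]
  refine congrArg₂ (· + ·) ?_ ?_
  · refine Finset.sum_congr rfl fun p _ => ?_
    rw [bz_and, wordOf_at _ p.2, ← bz_e2B]
    congr 2
    funext i
    simp [loc, bv, wordOf_at _ p.2, bz_and]
  · refine Finset.sum_congr rfl fun i _ => ?_
    rw [bz_and, ← bz_parB]
    simp [bv, bz_and]

end

/-- The diagonal of the factor set against the weight. -/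
def diagOK (m : ℕ) : Bool :=
  Nat.blt (selXor codeBasis m) (2 ^ 24) &&
    (phiN m m == Nat.beq (Nat.mod (Nat.div (pc (selXor codeBasis m)) 4) 2) 1)

theorem diag_check : ((List.range 2048).all diagOK) = true := by decide +kernel

theorem phi_diag (x : W11) : phi x x = quarter x := by
  obtain ⟨m, hm, rfl⟩ := exists_bits x
  have h := List.all_eq_true.mp diag_check m (List.mem_range.mpr hm)
  simp only [diagOK, Bool.and_eq_true, beq_iff_eq, Nat.blt_eq] at h
  obtain ⟨hlt, he⟩ := h
  show phi (bv m) (bv m) = quarter (bv m)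
  rw [phi_bv, he, quarter, comb_bv, support_wordOf]
  have hc : (toSet (selXor codeBasis m)).card = pc (selXor codeBasis m) := by rw [card_toSet, pc_eq]
  rw [hc]
  have : ∀ k : ℕ, bz (Nat.beq (Nat.mod k 2) 1) = (k : ZMod 2) := fun k => by
    rw [show Nat.mod k 2 = k % 2 from rfl, ← ZMod.natCast_mod k 2]
    rcases Nat.mod_two_eq_zero_or_one k with h | h <;> rw [h] <;> rfl
  exact this (pc (selXor codeBasis m) / 4)

end CfsgLib.ExtCert.M23
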