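/-
The extension of M23 by the cocode module given by the factor set of `Lib/ExtCert/Parker.lean`.
-/
import Mathlib
import Cfsg.Agent.Lib.ExtCert.Parker

set_option autoImplicit false
set_option maxHeartbeats 1000000
set_option maxRecDepth 10000
set_option linter.style.haveILetI false

namespace CfsgLib.ExtCert.M23

open CfsgGolay Cfsg M23Data

attribute [local irreducible] pid pcomp papp pmask codeL inCode selXor codeBasis dMask e2 wordOf

theorem word_comp_mem {σ : Equiv.Perm GolayPt} (hσ : σ ∈ M24) {w : GolayPt → ZMod 2} (hw : w ∈ golayCode) :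
    w ∘ ⇑σ⁻¹ ∈ golayCode := by
  obtain ⟨v, hv, he⟩ := mem_M24_iff.mp hσ (support₂ w) ⟨w, hw, rfl⟩
  have : v = w ∘ ⇑σ⁻¹ := wordOf_support (by rw [he]; exact (support_comp_symm σ w).symm)
  rw [← this]
  exact hv

theorem inv_none (σ : Spor.M23) : ((σ : Equiv.Perm GolayPt)⁻¹) none = none := by
  rw [Equiv.Perm.inv_eq_iff_eq]
  exact (MulAction.mem_stabilizer_iff.mp (Subgroup.mem_inf.mp σ.2).2).symm

/-- The action of M23 on coordinates. -/
def actW (σ : Spor.M23) (x : W11) : W11 :=
  fun i => comb codeBasis x ((σ : Equiv.Perm GolayPt)⁻¹ (pt (12 + (i : ℕ))))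

theorem comb_coord (c : W11) (i : Fin 11) : comb codeBasis c (pt (12 + (i : ℕ))) = c i := by
  rw [comb_at _ _ (by omega), Finset.sum_congr rfl fun j _ => by rw [(codeBasis_spec j).2.2 i]]
  simp

theorem comb_actW (σ : Spor.M23) (x : W11) :
    comb codeBasis (actW σ x) = comb codeBasis x ∘ ⇑((σ : Equiv.Perm GolayPt)⁻¹) := by
  obtain ⟨hm, h0⟩ := comb_code_mem x
  obtain ⟨a, ha⟩ := comb_code_surj (word_comp_mem (Subgroup.mem_inf.mp σ.2).1 hm)
    (by rw [Function.comp_apply, inv_none, h0])
  have : actW σ x = a := funext fun i => (congrFun ha _).symm.trans (comb_coord a i)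
  rw [this, ha]

theorem actW_add (σ : Spor.M23) (x y : W11) : actW σ (x + y) = actW σ x + actW σ y := by
  funext i; simp [actW, comb_add]

theorem actW_one (x : W11) : actW 1 x = x :=
  comb_code_inj (by rw [comb_actW]; simp)

theorem actW_mul (σ τ : Spor.M23) (x : W11) : actW (σ * τ) x = actW σ (actW τ x) :=
  comb_code_inj (by
    rw [comb_actW, comb_actW, comb_actW, Function.comp_assoc, ← Equiv.Perm.coe_mul, ← mul_inv_rev]
    rfl)

theorem actW_zero (σ : Spor.M23) : actW σ 0 = 0 := by
  funext i; simp [actW, comb]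

theorem quarter_actW (σ : Spor.M23) (x : W11) : quarter (actW σ x) = quarter x := by
  rw [quarter, quarter, comb_actW,
    show comb codeBasis x ∘ ⇑((σ : Equiv.Perm GolayPt)⁻¹) = fun p => comb codeBasis x ((σ : Equiv.Perm GolayPt).symm p)
      from rfl,
    support_comp_symm, Finset.card_image_of_injective _ (Equiv.injective _)]

theorem tri_actW (σ : Spor.M23) (x y z : W11) : tri (actW σ x) (actW σ y) (actW σ z) = tri x y z := by
  simp only [tri, comb_actW, Function.comp_apply]
  exact Equiv.sum_comp (σ : Equiv.Perm GolayPt)⁻¹ fun p =>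
    comb codeBasis x p * comb codeBasis y p * comb codeBasis z p

/-- The change of the factor set under an element. -/
def psi (σ : Spor.M23) (x y : W11) : ZMod 2 := phi (actW σ x) (actW σ y) + phi x y

theorem psi_add_left (σ : Spor.M23) (x y z : W11) : psi σ (x + y) z = psi σ x z + psi σ y z := by
  simp only [psi, actW_add, phi_add_left, tri_actW]
  linear_combination CharTwo.add_self_eq_zero (tri x y z)

theorem psi_add_right (σ : Spor.M23) (x y z : W11) : psi σ x (y + z) = psi σ x y + psi σ x z := by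
  simp only [psi, actW_add, phi_add_right]
  ring

theorem psi_self (σ : Spor.M23) (x : W11) : psi σ x x = 0 := by
  rw [psi, phi_diag, phi_diag, quarter_actW, CharTwo.add_self_eq_zero]

theorem psi_symm (σ : Spor.M23) (x y : W11) : psi σ x y = psi σ y x := by
  have h := psi_self σ (x + y)
  rw [psi_add_left, psi_add_right, psi_add_right, psi_self, psi_self, zero_add, add_zero] at h
  exact CharTwo.add_eq_zero.mp h

/-- The unit vectors. -/
def unitV (i : Fin 11) : W11 := Pi.single i 1

theorem psi_expand (σ : Spor.M23) (x y : W11) :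
    psi σ x y = ∑ i, ∑ j, x i * y j * psi σ (unitV i) (unitV j) := by
  have hx : ∀ v : W11, v = ∑ i, Pi.single i (v i) := fun v => (Finset.univ_sum_single v).symm
  let F : W11 →+ W11 →+ ZMod 2 :=
    AddMonoidHom.mk' (fun a => AddMonoidHom.mk' (psi σ a) (psi_add_right σ a))
      fun a b => AddMonoidHom.ext fun z => psi_add_left σ a b z
  show F x y = _
  conv_lhs => rw [hx x, hx y]
  rw [map_sum F, AddMonoidHom.finsetSum_apply]
  refine Finset.sum_congr rfl fun i _ => ?_
  rw [map_sum]
  refine Finset.sum_congr rfl fun j _ => ?_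
  show psi σ (Pi.single i (x i)) (Pi.single j (y j)) = _
  have hz : ∀ z, psi σ (0 : W11) z = 0 := fun z => by simpa using psi_add_left σ 0 0 z
  have hz' : ∀ z, psi σ z (0 : W11) = 0 := fun z => by simpa using psi_add_right σ z 0 0
  rcases zmod_two (x i) with hi | hi <;> rcases zmod_two (y j) with hj | hj <;> rw [hi, hj] <;>
    simp [unitV, hz, hz']

/-- Admissible functions. -/
def Adm (σ : Spor.M23) (f : W11 → ZMod 2) : Prop := ∀ x y, f (x + y) = f x + f y + psi σ x y

theorem exists_adm (σ : Spor.M23) : ∃ f, Adm σ f := by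
  let c : Fin 11 → Fin 11 → ZMod 2 := fun i j => if i < j then psi σ (unitV i) (unitV j) else 0
  refine ⟨fun x => ∑ i, ∑ j, x i * x j * c i j, fun x y => ?_⟩
  have hc : ∀ i j, c i j + c j i = psi σ (unitV i) (unitV j) := fun i j => by
    rcases lt_trichotomy i j with h | rfl | h
    · simp [c, h, h.not_gt]
    · simp [c, psi_self]
    · simp [c, h, h.not_gt, psi_symm σ (unitV j)]
  simp only [psi_expand σ x y, ← hc, Pi.add_apply, add_mul, mul_add, Finset.sum_add_distrib]
  rw [Finset.sum_comm (f := fun i j => x i * y j * c j i)]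
  simp only [mul_comm (x _) (y _)]
  ring

theorem Adm.map_zero {σ : Spor.M23} {f : W11 → ZMod 2} (h : Adm σ f) : f 0 = 0 := by
  have := h 0 0
  rwa [add_zero, psi, actW_zero, CharTwo.add_self_eq_zero, CharTwo.add_self_eq_zero, zero_add] at this

theorem Adm.mul {σ τ : Spor.M23} {f g : W11 → ZMod 2} (hf : Adm σ f) (hg : Adm τ g) :
    Adm (σ * τ) fun x => f (actW τ x) + g x := fun x y => by
  simp only [psi, actW_mul, actW_add]
  rw [hf, hg, psi, psi]
  linear_combination CharTwo.add_self_eq_zero (phi (actW τ x) (actW τ y))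

/-- The permutation of a pair. -/
def IsLift (σ : Spor.M23) (f : W11 → ZMod 2) (p : Equiv.Perm (W11 × ZMod 2)) : Prop :=
  ∀ x s, p (x, s) = (actW σ x, s + f x)

theorem exists_lift (σ : Spor.M23) (f : W11 → ZMod 2) : ∃ p, IsLift σ f p := by
  refine ⟨⟨fun z => (actW σ z.1, z.2 + f z.1), fun z => (actW σ⁻¹ z.1, z.2 + f (actW σ⁻¹ z.1)), fun z => ?_, fun z => ?_⟩,
    fun _ _ => rfl⟩
  · simp only [← actW_mul, inv_mul_cancel, actW_one, add_assoc, CharTwo.add_self_eq_zero, add_zero]
  · simp only [← actW_mul, mul_inv_cancel, actW_one, add_assoc, CharTwo.add_self_eq_zero, add_zero]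

/-- The extension. -/
def parker : Subgroup (Spor.M23 × Equiv.Perm (W11 × ZMod 2)) where
  carrier := {z | ∃ f, Adm z.1 f ∧ IsLift z.1 f z.2}
  one_mem' := ⟨fun _ => 0, fun x y => by simp [psi, actW_one, CharTwo.add_self_eq_zero],
    fun x s => by simp [actW_one]⟩
  mul_mem' := by
    rintro a b ⟨f, hf, hfp⟩ ⟨g, hg, hgp⟩
    refine ⟨fun x => f (actW b.1 x) + g x, hf.mul hg, fun x s => ?_⟩
    rw [Prod.snd_mul, Equiv.Perm.mul_apply, hgp, hfp, Prod.fst_mul, actW_mul, add_assoc, add_comm (g x)]
  inv_mem' := by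
    rintro a ⟨f, hf, hfp⟩
    refine ⟨fun x => f (actW a.1⁻¹ x), fun x y => ?_, fun x s => ?_⟩
    · simp only [actW_add]
      rw [hf, psi, ← actW_mul, ← actW_mul, mul_inv_cancel, actW_one, actW_one, Prod.fst_inv, psi,
        add_comm (phi x y)]
    · rw [Prod.snd_inv, Equiv.Perm.inv_eq_iff_eq, hfp, Prod.fst_inv, ← actW_mul, mul_inv_cancel, actW_one, add_assoc,
        CharTwo.add_self_eq_zero, add_zero]

/-- The projection. -/
def parkerPi : parker →* Spor.M23 := (MonoidHom.fst _ _).comp parker.subtype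

theorem parkerPi_surjective : Function.Surjective parkerPi := fun σ => by
  obtain ⟨f, hf⟩ := exists_adm σ
  obtain ⟨p, hp⟩ := exists_lift σ f
  exact ⟨⟨(σ, p), f, hf, hp⟩, rfl⟩

/-- The function of an element. -/
def fn (e : parker) (x : W11) : ZMod 2 := (e.1.2 (x, 0)).2

theorem fn_spec (e : parker) : Adm (parkerPi e) (fn e) ∧ IsLift (parkerPi e) (fn e) e.1.2 := by
  obtain ⟨f, hf, hfp⟩ := e.2
  have : fn e = f := funext fun x => by rw [fn, hfp, zero_add]
  rw [this]
  exact ⟨hf, hfp⟩

theorem fn_mul (a b : parker) (x : W11) : fn (a * b) x = fn a (actW (parkerPi b) x) + fn b x := by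
  show (a.1.2 (b.1.2 (x, 0))).2 = _
  rw [(fn_spec b).2, (fn_spec a).2, zero_add, add_comm]

theorem fn_one (x : W11) : fn 1 x = 0 := rfl

theorem parker_ext {a b : parker} (h : parkerPi a = parkerPi b) (h' : ∀ x, fn a x = fn b x) : a = b := by
  refine Subtype.ext (Prod.ext h (Equiv.ext fun z => ?_))
  obtain ⟨x, s⟩ := z
  rw [(fn_spec a).2, (fn_spec b).2, h, h']

/-- The functional of a word. -/
def pairing (w : GolayPt → ZMod 2) (x : W11) : ZMod 2 := ∑ p, w p * comb codeBasis x p

theorem pairing_add (w : GolayPt → ZMod 2) (x y : W11) : pairing w (x + y) = pairing w x + pairing w y := by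
  simp [pairing, comb_add, mul_add, Finset.sum_add_distrib]

theorem exists_kernel_elt (w : GolayPt → ZMod 2) :
    ∃ n : parkerPi.ker, ∀ x, fn n.1 x = pairing w x := by
  obtain ⟨p, hp⟩ := exists_lift 1 (pairing w)
  refine ⟨⟨⟨(1, p), pairing w, fun x y => ?_, hp⟩, rfl⟩, fun x => ?_⟩
  · simp [psi, actW_one, CharTwo.add_self_eq_zero, pairing_add]
  · show (p (x, 0)).2 = _
    rw [hp, zero_add]

theorem pairing_comp (w : GolayPt → ZMod 2) (σ : Spor.M23) (x : W11) :
    pairing (w ∘ ⇑((σ : Equiv.Perm GolayPt)⁻¹)) (actW σ x) = pairing w x := by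
  simp only [pairing, comb_actW, Function.comp_apply]
  exact Equiv.sum_comp (σ : Equiv.Perm GolayPt)⁻¹ fun p => w p * comb codeBasis x p

theorem pairing_code {w : GolayPt → ZMod 2} (hw : InKerW w) (x : W11) : pairing w x = 0 := by
  have hone : ∀ y : W11, pairing 1 y = 0 := fun y => by
    simp only [pairing, Pi.one_apply, one_mul, comb, Finset.sum_apply, Pi.smul_apply]
    rw [Finset.sum_comm]
    exact Finset.sum_eq_zero fun i _ => by rw [← Finset.smul_sum, basis_sum, smul_zero]
  have hcomb : ∀ a y : W11, pairing (comb codeBasis a) y = 0 := fun a y => by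
    simp only [pairing, comb, Finset.sum_apply, Pi.smul_apply, smul_eq_mul, Finset.sum_mul]
    rw [Finset.sum_comm]
    refine Finset.sum_eq_zero fun i _ => ?_
    simp only [mul_assoc]
    rw [← Finset.mul_sum]
    have := comb_orth i y
    simp only [comb, Finset.sum_apply, Pi.smul_apply, smul_eq_mul] at this
    rw [this, mul_zero]
  have hadd : ∀ u v : GolayPt → ZMod 2, pairing (u + v) x = pairing u x + pairing v x := fun u v => by
    simp [pairing, add_mul, Finset.sum_add_distrib]
  have hc : ∀ v ∈ golayCode, pairing v x = 0 := fun v hv => by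
    have h1 : (1 : GolayPt → ZMod 2) ∈ golayCode := Submodule.subset_span (Or.inr rfl)
    rcases zmod_two (v none) with h | h
    · obtain ⟨a, ha⟩ := comb_code_surj hv h
      rw [← ha]; exact hcomb a x
    · obtain ⟨a, ha⟩ := comb_code_surj (golayCode.add_mem hv h1)
        (by rw [Pi.add_apply, h, Pi.one_apply, CharTwo.add_self_eq_zero])
      have := hcomb a x
      rwa [ha, hadd, hone, add_zero] at this
  have hn : pairing (Pi.single none 1) x = 0 := by
    rw [pairing, Finset.sum_eq_single none]
    · simp [(comb_code_mem x).2]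
    · intro p _ hp; simp [hp]
    · simp
  rcases hw with hw | hw
  · exact hc w hw
  · have := hc _ hw
    rwa [hadd, hn, add_zero] at this

theorem pairing_single (i : Fin 11) (x : W11) :
    pairing (Pi.single (pt (12 + (i : ℕ))) 1) x = x i := by
  rw [pairing, Finset.sum_eq_single (pt (12 + (i : ℕ)))]
  · simp [comb_coord]
  · intro p _ hp; simp [hp]
  · simp

theorem pairing_dual (a : W11) (i : Fin 11) : pairing (comb dualBasis a) (unitV i) = a i := by
  have hd : ∀ j : Fin 11, wordOf (dualBasis.getD j 0) = Pi.single (pt (12 + (j : ℕ))) 1 := by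
    intro j
    rw [show dualBasis.getD j 0 = 2 ^ (12 + (j : ℕ)) by revert j; decide, wordOf_two_pow (by omega)]
  have : pairing (comb dualBasis a) (unitV i) =
      ∑ j, a j * pairing (Pi.single (pt (12 + (j : ℕ))) 1) (unitV i) := by
    rw [show comb dualBasis a = ∑ j, a j • wordOf (dualBasis.getD j 0) from rfl]
    simp only [pairing, hd]
    generalize comb codeBasis (unitV i) = v
    simp only [Finset.sum_apply, Pi.smul_apply, smul_eq_mul, Finset.sum_mul, Finset.mul_sum, mul_assoc]
    rw [Finset.sum_comm]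
  rw [this]
  simp [pairing_single, unitV, Pi.single_apply]

theorem decomp_ker (w : GolayPt → ZMod 2) : ∃ a, InKerW (w + comb dualBasis a) := by
  obtain ⟨hlen, h1, -, -⟩ := dual_basis
  simp only [List.all_eq_true, List.mem_range, Bool.and_eq_true, Nat.blt_eq] at h1
  have hadd : ∀ u v, InKerW u → InKerW v → InKerW (u + v) := by
    rintro u v (hu | hu) (hv | hv)
    · exact Or.inl (golayCode.add_mem hu hv)
    · exact Or.inr (by rw [add_assoc]; exact golayCode.add_mem hu hv)
    · exact Or.inr (by rw [add_right_comm]; exact golayCode.add_mem hu hv)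
    · refine Or.inl ?_
      have := golayCode.add_mem hu hv
      rwa [add_add_add_comm, CharTwo.add_self_eq_zero, add_zero] at this
  have hw : w = ∑ p : GolayPt, w p • (Pi.single p 1 : GolayPt → ZMod 2) := by
    funext q; simp [Finset.sum_apply, Pi.single_apply]
  have h0 : InKerW 0 := Or.inl (zero_mem _)
  rw [hw]
  refine Finset.sum_induction _ (fun v => ∃ a, InKerW (v + comb dualBasis a)) ?_
    ⟨0, by simpa [comb] using h0⟩ fun p _ => ?_
  · rintro u v ⟨a, ha⟩ ⟨b, hb⟩
    exact ⟨a + b, by rw [comb_add, add_add_add_comm]; exact hadd _ _ ha hb⟩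
  · obtain ⟨hk, hlt⟩ := h1 (idx p) (idx_lt p)
    rcases zmod_two (w p) with hx | hx <;> rw [hx]
    · exact ⟨0, by simpa [comb] using h0⟩
    · refine ⟨bv (unitCoord.getD (idx p) 0), ?_⟩
      show InKerW (_ + comb dualBasis fun j : Fin 11 => bz (bit (unitCoord.getD (idx p) 0) j))
      rw [one_smul, ← wordOf_selXor_eleven hlen,
        ← congrArg (fun q => (Pi.single q 1 : GolayPt → ZMod 2)) (pt_idx p), ← wordOf_two_pow (idx_lt p), ← wordOf_xor]
      exact (inKerW_iff hlt).mpr hk

theorem pairing_eq_zero_iff (w : GolayPt → ZMod 2) : (∀ x, pairing w x = 0) ↔ InKerW w := by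
  refine ⟨fun h => ?_, fun h x => pairing_code h x⟩
  obtain ⟨a, ha⟩ := decomp_ker w
  have : a = 0 := funext fun i => by
    have h1 := pairing_code ha (unitV i)
    rw [show pairing (w + comb dualBasis a) (unitV i) = pairing w (unitV i) + pairing (comb dualBasis a) (unitV i) by
      simp [pairing, add_mul, Finset.sum_add_distrib], h, zero_add, pairing_dual] at h1
    simpa using h1
  simpa [this, comb] using ha

/-- The kernel as the image of the words. -/
theorem exists_theta : ∃ θ : (GolayPt → ZMod 2) →+ Additive ↥parkerPi.ker,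
    Function.Surjective θ ∧ (∀ w, θ w = 0 ↔ InKerW w) ∧
    ∀ (e : parker) (w : GolayPt → ZMod 2),
      ((θ (w ∘ ⇑((parkerPi e : Equiv.Perm GolayPt)⁻¹))).toMul : parker) = e * ((θ w).toMul : parker) * e⁻¹ := by
  choose n hn using exists_kernel_elt
  have hk : ∀ (m : parkerPi.ker) x, actW (parkerPi m.1) x = x := fun m x => by
    rw [MonoidHom.mem_ker.mp m.2, actW_one]
  let θ : (GolayPt → ZMod 2) →+ Additive ↥parkerPi.ker := AddMonoidHom.mk' (fun w => Additive.ofMul (n w)) fun u v => by
    refine congrArg Additive.ofMul (Subtype.ext (parker_ext ?_ fun x => ?_))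
    · exact (MonoidHom.mem_ker.mp (n (u + v)).2).trans (MonoidHom.mem_ker.mp (n u * n v).2).symm
    · show fn (n (u + v)).1 x = fn ((n u).1 * (n v).1) x
      rw [fn_mul, hk, hn, hn, hn]
      simp [pairing, add_mul, Finset.sum_add_distrib]
  refine ⟨θ, fun m => ?_, fun w => ?_, fun e w => ?_⟩
  · have hadm := (fn_spec m.toMul.1).1
    rw [MonoidHom.mem_ker.mp m.toMul.2] at hadm
    let l : W11 →+ ZMod 2 := AddMonoidHom.mk' (fn m.toMul.1) fun x y => by
      rw [hadm, psi, actW_one, actW_one, CharTwo.add_self_eq_zero, add_zero]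
    refine ⟨∑ i : Fin 11, l (unitV i) • (Pi.single (pt (12 + (i : ℕ))) 1 : GolayPt → ZMod 2),
      congrArg Additive.ofMul (Subtype.ext (parker_ext
        ((MonoidHom.mem_ker.mp (n _).2).trans (MonoidHom.mem_ker.mp m.toMul.2).symm) fun x => ?_))⟩
    show fn (n _).1 x = l x
    rw [hn]
    conv_rhs => rw [← Finset.univ_sum_single x, map_sum]
    rw [pairing]
    simp only [Finset.sum_apply, Pi.smul_apply, smul_eq_mul, Finset.sum_mul]
    rw [Finset.sum_comm]
    refine Finset.sum_congr rfl fun i _ => ?_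
    simp only [mul_assoc, ← Finset.mul_sum]
    rw [show (∑ p, (Pi.single (pt (12 + (i : ℕ))) 1 : GolayPt → ZMod 2) p * comb codeBasis x p) = x i from
      pairing_single i x]
    rcases zmod_two (x i) with h | h <;> rw [h]
    · simp
    · exact mul_one _
  · rw [← pairing_eq_zero_iff]
    refine ⟨fun h x => ?_, fun h => congrArg Additive.ofMul (Subtype.ext (parker_ext ?_ fun x => ?_))⟩
    · rw [← hn, show n w = 1 from congrArg Additive.toMul h]
      exact fn_one x
    · exact MonoidHom.mem_ker.mp (n w).2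
    · rw [hn, h]; exact (fn_one x).symm
  · show ((n _ : parkerPi.ker) : parker) = _
    rw [eq_mul_inv_iff_mul_eq]
    show (n _).1 * e = e * (n w).1
    refine parker_ext ?_ fun x => ?_
    · rw [map_mul, map_mul, MonoidHom.mem_ker.mp (n w).2, MonoidHom.mem_ker.mp (n _).2, one_mul, mul_one]
    · rw [fn_mul, fn_mul, hk, hn, hn, pairing_comp, add_comm]

end CfsgLib.ExtCert.M23
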