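/-
The extension of `Lib/ExtCert/ParkerGroup.lean` does not split over a Sylow two-subgroup.
-/
import Mathlib
import Cfsg.Agent.Lib.ExtCert.ParkerGroup

set_option autoImplicit false
set_option maxHeartbeats 1000000
set_option maxRecDepth 10000
set_option linter.style.haveILetI false

namespace CfsgLib.ExtCert.M23

open CfsgGolay Cfsg M23Data
open CfsgLib.StemSylow.Collect (ev ev_cons ev_nil evC map_ev)
open CfsgLib.StemSylow.MathieuBigData (gc23 tc23)

attribute [local irreducible] pid pcomp papp pmask codeL inCode evC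

/-- The matrix of a generator. -/
def matN (k : ℕ) : List ℕ := codeCert.gmat k

/-- The value of an admissible function at a mask, as a row: bit `11 k + i` is the value at the `i`-th unit
vector and bit 77 is one. -/
def fN (k : ℕ) : ℕ → ℕ → ℕ
  | 0, _ => 0
  | n + 1, m => cond (bit m n)
      (fN k n m ^^^ 2 ^ (11 * k + n) ^^^
        cond (xor (phiN (selXor (matN k) (Nat.mod m (2 ^ n))) (selXor (matN k) (2 ^ n)))
          (phiN (Nat.mod m (2 ^ n)) (2 ^ n))) (2 ^ 77) 0)
      (fN k n m)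

/-- The image of a mask under a word. -/
def imgN : List ℕ → ℕ → ℕ
  | [], m => m
  | k :: l, m => selXor (matN k) (imgN l m)

/-- The value of a lifted word at a mask. -/
def evalN : List ℕ → ℕ → ℕ
  | [], _ => 0
  | k :: l, m => fN k 11 (imgN l m) ^^^ evalN l m

/-- Relations and unit vectors whose equations sum to a contradiction. -/
def nsCert : List (ℕ × ℕ) :=
  [(0, 1), (0, 2), (1, 0), (1, 1), (1, 6), (2, 0), (2, 2), (2, 6), (3, 2), (3, 3), (3, 4), (3, 6), (3, 9), (4, 0),
   (4, 1), (4, 2), (4, 3), (4, 4), (4, 6), (4, 7), (4, 8), (4, 9), (5, 1), (5, 2), (5, 3), (5, 4), (5, 6), (5, 7),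
   (5, 8), (5, 9), (6, 2), (6, 3), (9, 0), (10, 0), (10, 1), (11, 1)]

/-- The sum of the selected equations. -/
def nsSum : List (ℕ × ℕ) → ℕ
  | [] => 0
  | (m, i) :: l => evalN (codeCert.fact m).2.1 (2 ^ i) ^^^ evalN (codeCert.fact m).2.2 (2 ^ i) ^^^ nsSum l

theorem ns_check : nsSum nsCert = 2 ^ 77 ∧
    (nsCert.all fun z => Nat.blt z.1 codeCert.facts.length && Nat.beq (codeCert.fact z.1).1 0 &&
      (codeCert.fact z.1).2.1.all (fun k => Nat.blt k 7) && (codeCert.fact z.1).2.2.all (fun k => Nat.blt k 7)) = true ∧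
    ((List.range 7).all fun k => (matN k).length == 11 && (matN k).all (fun m => Nat.blt m (2 ^ 11))) = true := by
  decide +kernel

attribute [local irreducible] selXor codeBasis dMask e2 wordOf phiN codeCert

theorem selXor_lt : ∀ (B : List ℕ) (m : ℕ), (∀ b ∈ B, b < 2 ^ 11) → selXor B m < 2 ^ 11
  | [], m, _ => by unfold selXor; norm_num
  | b :: B, m, h => by
    unfold selXor
    refine Nat.xor_lt_two_pow ?_ (selXor_lt B _ fun c hc => h c (List.mem_cons_of_mem _ hc))
    cases Nat.beq (Nat.mod m 2) 1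
    · norm_num
    · exact h b List.mem_cons_self

theorem bv_xor (a b : ℕ) : bv (a ^^^ b) = bv a + bv b := by
  funext i
  simp only [bv, Pi.add_apply, bit_eq, Nat.testBit_xor]
  cases a.testBit i <;> cases b.testBit i <;> rfl

theorem bv_selXor : ∀ (B : List ℕ) (m : ℕ),
    bv (selXor B m) = ∑ j ∈ Finset.range B.length, bz (bit m j) • bv (B.getD j 0)
  | [], m => by
    unfold selXor
    funext i; simp [bv, bit_eq, bz]
  | b :: B, m => by
    rw [show selXor (b :: B) m = cond (Nat.beq (Nat.mod m 2) 1) b 0 ^^^ selXor B (Nat.div m 2) by rw [selXor]]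
    rw [bv_xor, bv_selXor B, List.length_cons, Finset.sum_range_succ', add_comm]
    simp only [List.getD_cons_succ, List.getD_cons_zero, bit_eq]
    congr 1
    · refine Finset.sum_congr rfl fun j _ => ?_
      rw [show Nat.div m 2 = m / 2 from rfl, ← Nat.testBit_succ]
    · have h0 : Nat.beq (Nat.mod m 2) 1 = m.testBit 0 := by
        rw [show Nat.beq (Nat.mod m 2) 1 = bit m 0 from rfl, bit_eq]
      rw [h0]
      cases m.testBit 0
      · funext i; simp [bv, bit_eq, bz]
      · funext i; simp [bz]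

theorem bv_two_pow {i : ℕ} (hi : i < 11) : bv (2 ^ i) = unitV ⟨i, hi⟩ := by
  funext j
  simp only [bv, bit_eq, Nat.testBit_two_pow, unitV, Pi.single_apply, Fin.ext_iff]
  by_cases h : i = j <;> simp [h, bz, eq_comm]

variable {g : ℕ → Spor.M23} (hg : ∀ k, Repr (gc23.getD k pid) (g k : Equiv.Perm GolayPt))

include hg in
theorem actW_gen {k : ℕ} (hk : k < 7) (m : ℕ) : actW (g k) (bv m) = bv (selXor (matN k) m) := by
  have hlen : (matN k).length = 11 := by
    have := List.all_eq_true.mp ns_check.2.2 k (List.mem_range.mpr hk)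
    simp only [Bool.and_eq_true, beq_iff_eq] at this
    exact this.1
  have hk' : k < gc23.length := by simpa [gc23] using hk
  have hr : Repr (gc23.getD k 0) (g k : Equiv.Perm GolayPt) := by
    have := hg k
    rwa [List.getD_eq_getElem _ _ hk'] at this ⊢
  have hok := act_code.1
  simp only [codeActOK, Bool.and_eq_true, List.all_eq_true, List.mem_range] at hok
  have hl : gc23.length = codeCert.gm.length := Nat.eq_of_beq_eq_true hok.1
  have hmat : matN k = codeCert.gm.getD k [] := by
    rw [matN, Cert.gmat, List.getD_eq_getElem _ _ (hl ▸ hk'), List.getD_eq_getElem _ _ (hl ▸ hk')]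
  refine comb_code_inj ?_
  rw [comb_actW, comb_comp _ _ hr, bv_selXor, hlen, Finset.sum_range]
  rw [show comb codeBasis (∑ j : Fin 11, bz (bit m j) • bv ((matN k).getD j 0)) =
      ∑ j : Fin 11, bz (bit m j) • comb codeBasis (bv ((matN k).getD j 0)) by
    rw [show comb codeBasis (∑ j : Fin 11, bz (bit m j) • bv ((matN k).getD j 0)) =
      (AddMonoidHom.mk' (comb codeBasis) (comb_add codeBasis)) (∑ j : Fin 11, bz (bit m j) • bv ((matN k).getD j 0))
      from rfl, map_sum]
    refine Finset.sum_congr rfl fun j _ => ?_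
    cases bit m j <;> simp [bz, comb]]
  refine Finset.sum_congr rfl fun j _ => ?_
  rw [comb_bv, hmat, ← Nat.eq_of_beq_eq_true (hok.2 k hk' j j.2)]
  rfl

/-- The values of the unknowns. -/
def unkF (s : ℕ → parker) (j : ℕ) : ZMod 2 :=
  if j = 77 then 1 else fn (s (j / 11)) (bv (2 ^ (j % 11)))

theorem mod_split (m n : ℕ) :
    Nat.mod m (2 ^ (n + 1)) = Nat.mod m (2 ^ n) ^^^ cond (bit m n) (2 ^ n) 0 := by
  rw [show Nat.mod m (2 ^ (n + 1)) = m % 2 ^ (n + 1) from rfl, show Nat.mod m (2 ^ n) = m % 2 ^ n from rfl, bit_eq]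
  apply Nat.eq_of_testBit_eq
  intro i
  rcases Nat.lt_trichotomy i n with hi | rfl | hi
  · have h1 : i < n + 1 := by omega
    cases m.testBit n <;> simp [Nat.testBit_mod_two_pow, Nat.testBit_two_pow, Nat.testBit_xor, hi, h1, hi.ne']
  · cases h : m.testBit i <;> simp [Nat.testBit_mod_two_pow, Nat.testBit_two_pow, Nat.testBit_xor, h]
  · have h1 : ¬ i < n + 1 := by omega
    cases m.testBit n <;> simp [Nat.testBit_mod_two_pow, Nat.testBit_two_pow, Nat.testBit_xor, h1, hi.not_gt, hi.ne]

theorem bz_xor : ∀ a b : Bool, bz (xor a b) = bz a + bz b := by decide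

include hg in
theorem fN_sound (s : ℕ → parker) (hs : ∀ k, parkerPi (s k) = g k) {k : ℕ} (hk : k < 7) :
    ∀ n ≤ 11, ∀ m, lin (unkF s) 78 (fN k n m) = fn (s k) (bv (Nat.mod m (2 ^ n)))
  | 0, _, m => by
    have hb : bv (Nat.mod m (2 ^ 0)) = 0 := by
      funext i; rw [show Nat.mod m (2 ^ 0) = 0 from Nat.mod_one m]; simp [bv, bit_eq, bz]
    rw [fN, lin_zero, hb, (fn_spec (s k)).1.map_zero]
  | n + 1, hn, m => by
    have ih := fN_sound s hs hk n (by omega) m
    rw [mod_split, fN]
    cases bit m n with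
    | false => simp [ih]
    | true =>
      simp only [cond_true]
      rw [lin_xor, lin_xor, ih, bv_xor, (fn_spec (s k)).1, hs, psi, actW_gen hg hk, actW_gen hg hk, phi_bv, phi_bv,
        lin_two_pow _ _ (by omega : 11 * k + n < 78)]
      have hu : unkF s (11 * k + n) = fn (s k) (bv (2 ^ n)) := by
        rw [unkF, if_neg (by omega), show (11 * k + n) / 11 = k by omega, show (11 * k + n) % 11 = n by omega]
      have hc : ∀ b : Bool, lin (unkF s) 78 (cond b (2 ^ 77) 0) = bz b := fun b => by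
        cases b
        · rw [cond_false, lin_zero]; rfl
        · rw [cond_true, lin_two_pow _ _ (by norm_num : 77 < 78)]; rfl
      rw [hu, hc, bz_xor]

include hg in
theorem imgN_spec : ∀ (l : List ℕ), (∀ k ∈ l, k < 7) → ∀ m < 2 ^ 11,
    actW (ev g l) (bv m) = bv (imgN l m) ∧ imgN l m < 2 ^ 11
  | [], _, m, hm => ⟨by simp [ev_nil, actW_one, imgN], hm⟩
  | k :: l, hl, m, hm => by
    obtain ⟨h1, h2⟩ := imgN_spec l (fun a ha => hl a (List.mem_cons_of_mem _ ha)) m hm
    refine ⟨by rw [ev_cons, actW_mul, h1, actW_gen hg (hl k List.mem_cons_self), imgN], ?_⟩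
    rw [imgN]
    refine selXor_lt _ _ fun b hb => ?_
    have := List.all_eq_true.mp ns_check.2.2 k (List.mem_range.mpr (hl k List.mem_cons_self))
    simp only [Bool.and_eq_true, List.all_eq_true, Nat.blt_eq] at this
    exact this.2 b hb

include hg in
theorem evalN_sound (s : ℕ → parker) (hs : ∀ k, parkerPi (s k) = g k) :
    ∀ (l : List ℕ), (∀ k ∈ l, k < 7) → ∀ m < 2 ^ 11, lin (unkF s) 78 (evalN l m) = fn (ev s l) (bv m)
  | [], _, m, _ => by simp [evalN, lin_zero, ev_nil, fn_one]
  | k :: l, hl, m, hm => by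
    have hl' : ∀ a ∈ l, a < 7 := fun a ha => hl a (List.mem_cons_of_mem _ ha)
    obtain ⟨h1, h2⟩ := imgN_spec hg l hl' m hm
    rw [evalN, lin_xor, fN_sound hg s hs (hl k List.mem_cons_self) 11 le_rfl, evalN_sound s hs l hl' m hm, ev_cons,
      fn_mul, map_ev]
    simp only [hs]
    rw [h1, show Nat.mod (imgN l m) (2 ^ 11) = imgN l m from Nat.mod_eq_of_lt h2]

include hg in
theorem no_section (t : ℕ → Spor.M23) (ht : ∀ k, Repr (tc23.getD k pid) (t k : Equiv.Perm GolayPt))
    (S : Spor.M23 →* parker) (hS : ∀ σ, parkerPi (S σ) = σ) : False := by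
  obtain ⟨ht0, hfacts⟩ := facts_hold hg ht codeCert facts_code.1
  obtain ⟨hsum, hall, -⟩ := ns_check
  set s : ℕ → parker := fun k => S (g k)
  have hrel : ∀ z ∈ nsCert, z.2 < 11 → lin (unkF s) 78
      (evalN (codeCert.fact z.1).2.1 (2 ^ z.2) ^^^ evalN (codeCert.fact z.1).2.2 (2 ^ z.2)) = 0 := by
    intro z hz hz2
    have h := List.all_eq_true.mp hall z hz
    simp only [Bool.and_eq_true, List.all_eq_true, Nat.blt_eq] at h
    obtain ⟨⟨⟨hlt, h0⟩, hq⟩, hp⟩ := h
    have := hfacts _ hlt
    rw [Nat.eq_of_beq_eq_true h0, ht0, one_mul, mul_one] at this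
    have hm : 2 ^ z.2 < 2 ^ 11 := Nat.pow_lt_pow_right (by norm_num) hz2
    rw [lin_xor, evalN_sound hg s (fun k => hS _) _ hq _ hm, evalN_sound hg s (fun k => hS _) _ hp _ hm,
      ← map_ev S g, ← map_ev S g, this, CharTwo.add_self_eq_zero]
  have hzero : ∀ l : List (ℕ × ℕ), (∀ z ∈ l, z ∈ nsCert) → lin (unkF s) 78 (nsSum l) = 0 := by
    intro l
    induction l with
    | nil => intro _; simp [nsSum, lin_zero]
    | cons z l ih =>
      intro hl
      have hz2 : ∀ y ∈ nsCert, y.2 < 11 := by decide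
      obtain ⟨a, b⟩ := z
      rw [nsSum, lin_xor, ih fun y hy => hl y (List.mem_cons_of_mem _ hy),
        hrel (a, b) (hl _ List.mem_cons_self) (hz2 _ (hl _ List.mem_cons_self)), add_zero]
  have := hzero nsCert fun z hz => hz
  rw [hsum, lin_two_pow _ _ (by norm_num : 77 < 78), unkF, if_pos rfl] at this
  exact one_ne_zero this

theorem exists_nonsplit :
    ∃ (E : Type) (_ : Group E) (_ : Finite E) (N : Subgroup E) (_ : N.Normal)
      (φ : E ⧸ N ≃* ↥Spor.M23) (θ : (GolayPt → ZMod 2) →+ Additive ↥N),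
      Function.Surjective θ ∧ (∀ w : GolayPt → ZMod 2, θ w = 0 ↔ InKerW w) ∧
      (∀ (g : E) (w : GolayPt → ZMod 2),
        ((θ (w ∘ ⇑(((φ (QuotientGroup.mk g) : ↥Spor.M23) : Equiv.Perm GolayPt)⁻¹))).toMul : E)
          = g * ((θ w).toMul : E) * g⁻¹) ∧
      ∀ H : Subgroup E, H ⊓ N = ⊥ → H ⊔ N ≠ ⊤ := by
  classical
  obtain ⟨g, t, hg, ht⟩ := exists_gens
  obtain ⟨θ, h1, h2, h3⟩ := exists_theta
  haveI : Finite W11 := inferInstance
  refine ⟨parker, inferInstance, inferInstance, parkerPi.ker, inferInstance,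
    QuotientGroup.quotientKerEquivOfSurjective parkerPi parkerPi_surjective, θ, h1, h2, ?_, fun H hi hs => ?_⟩
  · intro e w
    exact h3 e w
  · let r : H →* Spor.M23 := parkerPi.comp H.subtype
    have hinj : Function.Injective r := by
      rw [injective_iff_map_eq_one]
      intro x hx
      have : (x : parker) ∈ H ⊓ parkerPi.ker := ⟨x.2, MonoidHom.mem_ker.mpr hx⟩
      rw [hi, Subgroup.mem_bot] at this
      exact Subtype.ext this
    have hsurj : Function.Surjective r := by
      intro σ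
      obtain ⟨e, rfl⟩ := parkerPi_surjective σ
      have he : e ∈ ((H ⊔ parkerPi.ker : Subgroup parker) : Set parker) := by rw [hs]; exact Subgroup.mem_top e
      rw [Subgroup.mul_normal] at he
      obtain ⟨h, hh, n, hn, rfl⟩ := he
      exact ⟨⟨h, hh⟩, by simp [r, MonoidHom.mem_ker.mp hn]⟩
    let eqv := MulEquiv.ofBijective r ⟨hinj, hsurj⟩
    exact no_section hg t ht (H.subtype.comp eqv.symm.toMonoidHom) fun σ => eqv.apply_symm_apply σ

end CfsgLib.ExtCert.M23
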